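import Mathlib

/-!
# S3499-II UB2 general (helper59), part 1: powers of a simple group are generated by three elements

`T` nonabelian simple, `⟨a, b⟩ = T`, `x : ι → T` injective (`ι` finite): `(a, …, a)`, `(b, …, b)`, `x` generate `T ^ ι`.
So `T ^ ι` has at least `|T| ^ |ι| * |T| (|T| - 1)` generating triples (`2 ≤ |ι| ≤ |T|`).
-/

set_option autoImplicit false

namespace Cfsg.Agent.H59.EP

open Subgroup
open scoped commutatorElement

section

variable {T : Type*} [Group T] {ι : Type*} [Fintype ι] [DecidableEq ι]

/-- a non-central conjugate -/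
theorem exists_noncomm [hs : IsSimpleGroup T] (hna : ¬ ∀ a b : T, a * b = b * a) {g h : T} (hg : g ≠ 1) (hh : h ≠ 1) :
    ∃ t : T, ⁅h, t * g * t⁻¹⁆ ≠ 1 := by
  by_contra hcon
  push Not at hcon
  -- `h` centralises the normal closure of `g`
  have h1 : normalClosure {g} ≤ centralizer {h} := by
    rw [normalClosure, closure_le]
    intro y hy
    rw [Group.mem_conjugatesOfSet_iff] at hy
    obtain ⟨z, hz, hzy⟩ := hy
    rw [Set.mem_singleton_iff] at hz
    subst hz
    obtain ⟨t, rfl⟩ := isConj_iff.1 hzy
    rw [SetLike.mem_coe, mem_centralizer_singleton_iff]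
    exact (commutatorElement_eq_one_iff_mul_comm.1 (hcon t)).symm
  have h2 : normalClosure {g} = ⊤ := by
    rcases hs.eq_bot_or_eq_top_of_normal (normalClosure {g}) inferInstance with h | h
    · exfalso
      apply hg
      have : g ∈ normalClosure ({g} : Set T) := subset_normalClosure rfl
      rw [h, mem_bot] at this
      exact this
    · exact h
  have h3 : h ∈ center T := by
    rw [mem_center_iff]
    intro y
    have : y ∈ centralizer {h} := h1 (by rw [h2]; exact mem_top y)
    exact (mem_centralizer_singleton_iff.1 this)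
  rcases hs.eq_bot_or_eq_top_of_normal (center T) inferInstance with h4 | h4
  · rw [h4, mem_bot] at h3
    exact hh h3
  · apply hna
    intro a b
    have : b ∈ center T := by rw [h4]; exact mem_top _
    exact mem_center_iff.1 this a

/-- **Three generators.** -/
theorem closure_triple [hs : IsSimpleGroup T] (hna : ¬ ∀ a b : T, a * b = b * a) {a b : T}
    (hab : closure ({a, b} : Set T) = ⊤) {x : ι → T} (hx : Function.Injective x) :
    closure ({(fun _ => a), (fun _ => b), x} : Set (ι → T)) = ⊤ := by
  set H := closure ({(fun _ => a), (fun _ => b), x} : Set (ι → T)) with hH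
  have hxH : x ∈ H := subset_closure (by simp)
  -- the constants
  have hconst : ∀ t : T, (fun _ : ι => t) ∈ H := by
    intro t
    have h1 : (Pi.constMonoidHom ι T) t ∈ H := by
      have h2 : (closure ({a, b} : Set T)).map (Pi.constMonoidHom ι T) ≤ H := by
        rw [MonoidHom.map_closure, closure_le, Set.image_pair]
        rintro y (rfl | rfl)
        · exact subset_closure (by left; rfl)
        · exact subset_closure (by right; left; rfl)
      exact h2 ⟨t, by rw [hab]; exact mem_top t, rfl⟩
    exact h1
  -- separation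
  have hsep : ∀ (i : ι) (J : Finset ι), i ∉ J → ∃ h ∈ H, h i ≠ 1 ∧ ∀ j ∈ J, h j = 1 := by
    intro i J
    induction J using Finset.induction_on with
    | empty =>
      intro _
      obtain ⟨t, ht⟩ := exists_ne (1 : T)
      exact ⟨fun _ => t, hconst t, ht, by simp⟩
    | insert j J hj ih =>
      intro hi
      rw [Finset.mem_insert, not_or] at hi
      obtain ⟨h, hh, hhi, hhJ⟩ := ih hi.2
      have hgH : x * (fun _ => (x j)⁻¹) ∈ H := mul_mem hxH (hconst _)
      have hgi : x i * (x j)⁻¹ ≠ 1 := by
        rw [Ne, mul_inv_eq_one]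
        exact fun e => hi.1 (hx e)
      obtain ⟨t, ht⟩ := exists_noncomm hna hgi hhi
      refine ⟨⁅h, (fun _ => t) * (x * (fun _ => (x j)⁻¹)) * (fun _ => t)⁻¹⁆, ?_, ht, ?_⟩
      · have h1 := mul_mem (mul_mem (hconst t) hgH) (inv_mem (hconst t))
        rw [commutatorElement_def]
        exact mul_mem (mul_mem (mul_mem hh h1) (inv_mem hh)) (inv_mem h1)
      · intro l hl
        show ⁅h l, t * (x l * (x j)⁻¹) * t⁻¹⁆ = 1
        rcases Finset.mem_insert.1 hl with rfl | hl
        · rw [mul_inv_cancel, mul_one, mul_inv_cancel, commutatorElement_one_right]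
        · rw [hhJ l hl, commutatorElement_one_left]
  -- the factors
  have hsingle : ∀ (i : ι) (t : T), Pi.mulSingle i t ∈ H := by
    intro i t
    obtain ⟨h, hh, hhi, hhJ⟩ := hsep i (Finset.univ.erase i) (by simp)
    have h1 : h = Pi.mulSingle i (h i) := by
      ext j
      by_cases hj : j = i
      · subst hj
        rw [Pi.mulSingle_eq_same]
      · rw [Pi.mulSingle_eq_of_ne hj]
        exact hhJ j (by simp [hj])
    let N : Subgroup T := H.comap (MonoidHom.mulSingle (fun _ => T) i)
    have hN : N.Normal := ⟨fun n hn g => by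
      show Pi.mulSingle i (g * n * g⁻¹) ∈ H
      have hn' : Pi.mulSingle i n ∈ H := hn
      have h2 := mul_mem (mul_mem (hconst g) hn') (inv_mem (hconst g))
      convert h2 using 1
      ext j
      by_cases hj : j = i
      · subst hj
        simp
      · simp [Pi.mulSingle_eq_of_ne hj]⟩
    have hNt : N = ⊤ := by
      rcases hs.eq_bot_or_eq_top_of_normal N hN with h2 | h2
      · exfalso
        have h3 : h i ∈ N := by
          show Pi.mulSingle i (h i) ∈ H
          rw [← h1]
          exact hh
        rw [h2, mem_bot] at h3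
        exact hhi h3
      · exact h2
    have : t ∈ N := by rw [hNt]; exact mem_top t
    exact this
  rw [eq_top_iff']
  intro y
  exact Subgroup.pi_mem_of_mulSingle_mem y fun i => hsingle i (y i)

theorem descFactorial_ge {n k : ℕ} (hk : 2 ≤ k) (hkn : k ≤ n) : n * (n - 1) ≤ n.descFactorial k := by
  induction k, hk using Nat.le_induction with
  | base =>
    rw [Nat.descFactorial_succ, Nat.descFactorial_one, mul_comm]
  | succ k hk ih =>
    rw [Nat.descFactorial_succ]
    refine (ih (by omega)).trans ?_
    calc n.descFactorial k = 1 * n.descFactorial k := (one_mul _).symm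
      _ ≤ (n - k) * n.descFactorial k := Nat.mul_le_mul_right _ (by omega)

/-- **the number of generating triples of `T ^ ι`** -/
theorem card_triples [Finite T] [hs : IsSimpleGroup T] (hna : ¬ ∀ a b : T, a * b = b * a) {a b : T}
    (hab : closure ({a, b} : Set T) = ⊤) (h2 : 2 ≤ Fintype.card ι) (hι : Fintype.card ι ≤ Nat.card T) :
    Nat.card T ^ 3 * (Nat.card T - 1) ≤
      {p : (ι → T) × (ι → T) × (ι → T) | closure ({p.1, p.2.1, p.2.2} : Set (ι → T)) = ⊤}.ncard := by
  classical
  let _ : Fintype T := Fintype.ofFinite T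
  -- the stabiliser of `(a, b)` is trivial
  have hfree : ∀ g k : T, g * a * g⁻¹ = k * a * k⁻¹ → g * b * g⁻¹ = k * b * k⁻¹ → g = k := by
    intro g k e1 e2
    have key : ∀ z : T, g * z * g⁻¹ = k * z * k⁻¹ → (k⁻¹ * g) * z = z * (k⁻¹ * g) := by
      intro z e
      rw [mul_inv_eq_iff_eq_mul] at e
      rw [mul_assoc k⁻¹ g z, e]
      group
    have h1 : (⊤ : Subgroup T) ≤ centralizer {k⁻¹ * g} := by
      rw [← hab, closure_le]
      rintro y (rfl | rfl)
      · rw [SetLike.mem_coe, mem_centralizer_singleton_iff]
        exact (key _ e1).symm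
      · rw [SetLike.mem_coe, mem_centralizer_singleton_iff]
        exact (key _ e2).symm
    have h3 : k⁻¹ * g ∈ center T := by
      rw [mem_center_iff]
      intro y
      exact (mem_centralizer_singleton_iff.1 (h1 (mem_top y)))
    rcases hs.eq_bot_or_eq_top_of_normal (center T) inferInstance with h4 | h4
    · rw [h4, mem_bot, inv_mul_eq_one] at h3
      exact h3.symm
    · exfalso
      apply hna
      intro a b
      have : b ∈ center T := by rw [h4]; exact mem_top _
      exact mem_center_iff.1 this a
  let f : (ι → T) × (ι ↪ T) → (ι → T) × (ι → T) × (ι → T) := fun q =>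
    (q.1 * (fun _ => a) * q.1⁻¹, q.1 * (fun _ => b) * q.1⁻¹, q.1 * q.2 * q.1⁻¹)
  have hf : Function.Injective f := by
    rintro ⟨g, x⟩ ⟨k, y⟩ e
    simp only [f, Prod.mk.injEq] at e
    obtain ⟨e1, e2, e3⟩ := e
    have hgk : g = k := by
      ext i
      exact hfree _ _ (congrFun e1 i) (congrFun e2 i)
    subst hgk
    have h4 : (x : ι → T) = y := by
      have := mul_right_cancel e3
      exact mul_left_cancel this
    have h5 : x = y := DFunLike.coe_injective h4
    rw [h5]
  have hmem : ∀ q, f q ∈ {p : (ι → T) × (ι → T) × (ι → T) | closure ({p.1, p.2.1, p.2.2} : Set (ι → T)) = ⊤} := by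
    rintro ⟨g, x⟩
    show closure ({g * (fun _ => a) * g⁻¹, g * (fun _ => b) * g⁻¹, g * (x : ι → T) * g⁻¹} : Set (ι → T)) = ⊤
    have h1 : ({g * (fun _ => a) * g⁻¹, g * (fun _ => b) * g⁻¹, g * (x : ι → T) * g⁻¹} : Set (ι → T)) =
        (MulAut.conj g).toMonoidHom '' {(fun _ => a), (fun _ => b), (x : ι → T)} := by
      rw [Set.image_insert_eq, Set.image_pair]
      rfl
    rw [h1, ← MonoidHom.map_closure, closure_triple hna hab x.injective]
    exact Subgroup.map_top_of_surjective _ (MulAut.conj g).surjective
  have h1 : Nat.card ((ι → T) × (ι ↪ T)) ≤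
      {p : (ι → T) × (ι → T) × (ι → T) | closure ({p.1, p.2.1, p.2.2} : Set (ι → T)) = ⊤}.ncard := by
    have e : Nat.card ((ι → T) × (ι ↪ T)) = (Set.range f).ncard := by
      rw [← Set.image_univ, Set.ncard_image_of_injective _ hf, Set.ncard_univ]
    rw [e]
    refine Set.ncard_le_ncard ?_ (Set.toFinite _)
    rintro _ ⟨q, rfl⟩
    exact hmem q
  refine le_trans ?_ h1
  rw [Nat.card_prod, Nat.card_eq_fintype_card (α := ι → T), Nat.card_eq_fintype_card (α := ι ↪ T),
    Fintype.card_fun, Fintype.card_embedding_eq, Nat.card_eq_fintype_card]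
  rw [Nat.card_eq_fintype_card] at hι
  have h5 := descFactorial_ge h2 hι
  have h6 : Fintype.card T ^ 2 ≤ Fintype.card T ^ Fintype.card ι := Nat.pow_le_pow_right Fintype.card_pos h2
  calc Fintype.card T ^ 3 * (Fintype.card T - 1) = Fintype.card T ^ 2 * (Fintype.card T * (Fintype.card T - 1)) := by
        rw [pow_succ, mul_assoc]
    _ ≤ _ := Nat.mul_le_mul h6 h5

end

end Cfsg.Agent.H59.EP
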