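import Cfsg.Agent.H59.EP.Count
import Cfsg.Agent.H59.EP.Pow
import Cfsg.Agent.S5914

/-!
# S3499-II UB2 general (helper59), part 2: the counting theorem without conditions on the primes

`ncard_le_gen`: `𝓜` a set of subgroups `M ≠ 1` of `B` of index at most `c` with `N_B(K) ≤ M` for all characteristic
subgroups `K ≠ 1` of `M`, and `|B| < 60 ^ 61`. Then
`|𝓜| ≤ (∑_s gal s (v_s |B|)) * c + |B| ^ 2 / 60 + |B| ^ 3 / 12744000`.
-/

set_option autoImplicit false

namespace Cfsg.Agent.H59.EP

open Subgroup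
open scoped commutatorElement

/-- an abelian characteristically simple group is elementary abelian -/
theorem elab_of_comm {X : Type*} [Group X] [Finite X] [Nontrivial X]
    (hc : ∀ Y : Subgroup X, Y.Characteristic → Y = ⊥ ∨ Y = ⊤) (hcomm : ∀ a b : X, a * b = b * a) :
    ∃ s : ℕ, s.Prime ∧ s ∣ Nat.card X ∧ ElAb s (⊤ : Subgroup X) := by
  obtain ⟨s, hs, hsd⟩ := Nat.exists_prime_and_dvd (n := Nat.card X) (by
    have := Finite.one_lt_card (α := X)
    omega)
  have : Fact s.Prime := ⟨hs⟩
  obtain ⟨x, hx⟩ := exists_prime_orderOf_dvd_card' s hsd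
  let Y : Subgroup X :=
    { carrier := {y | y ^ s = 1}
      one_mem' := one_pow s
      mul_mem' := fun {a b} ha hb => by
        show (a * b) ^ s = 1
        rw [(show Commute a b from hcomm a b).mul_pow, show a ^ s = 1 from ha, show b ^ s = 1 from hb, one_mul]
      inv_mem' := fun {a} ha => by
        show a⁻¹ ^ s = 1
        rw [inv_pow, show a ^ s = 1 from ha, inv_one] }
  have hY : Y.Characteristic := by
    rw [characteristic_iff_map_le]
    rintro φ _ ⟨y, hy, rfl⟩
    show (φ y) ^ s = 1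
    rw [← map_pow, show y ^ s = 1 from hy, map_one]
  refine ⟨s, hs, hsd, fun a _ b _ => hcomm a b, ?_⟩
  rcases hc Y hY with h | h
  · exfalso
    have h1 : x ∈ Y := by
      show x ^ s = 1
      rw [← hx, pow_orderOf_eq_one]
    rw [h, mem_bot] at h1
    rw [h1, orderOf_one] at hx
    exact hs.one_lt.ne hx
  · intro a _
    have h1 : a ∈ Y := by rw [h]; exact mem_top _
    exact h1

/-- **characteristically simple groups** -/
theorem char_simple_gen (hg : ∀ (X : Type) [Group X] [Finite X] [IsSimpleGroup X], ∃ x y : X, closure ({x, y} : Set X) = ⊤) {X : Type*} [Group X] [Finite X] [Nontrivial X]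
    (hc : ∀ Y : Subgroup X, Y.Characteristic → Y = ⊥ ∨ Y = ⊤) (hcard : Nat.card X < 60 ^ 61) :
    (∃ s : ℕ, s.Prime ∧ s ∣ Nat.card X ∧ ElAb s (⊤ : Subgroup X)) ∨
      ((IsSimpleGroup X ∧ ¬ Group.IsSolvable X) ∧ ∃ a b : X, closure ({a, b} : Set X) = ⊤) ∨
      12744000 ≤ {p : X × X × X | closure ({p.1, p.2.1, p.2.2} : Set X) = ⊤}.ncard := by
  by_cases hcomm : ∀ a b : X, a * b = b * a
  · exact Or.inl (elab_of_comm hc hcomm)
  right
  obtain ⟨T, hT1, hT2, n, hn, ⟨e⟩⟩ := Cfsg.Agent.S5914.result.1 hc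
  have h0 : 0 < n := by omega
  -- `T` is finite
  have hTf : Finite T := Finite.of_injective (fun t : T => e.symm (Pi.mulSingle ⟨0, h0⟩ t)) fun t s h =>
    Pi.mulSingle_injective _ (e.symm.injective h)
  have hTc : ¬ ∀ a b : T, a * b = b * a := by
    intro h
    apply hcomm
    intro a b
    apply e.injective
    rw [map_mul, map_mul]
    ext i
    exact h _ _
  have hTs : ¬ Group.IsSolvable T := by
    intro h
    have h1 : commutator T < ⊤ := Group.IsSolvable.commutator_lt_top_of_nontrivial T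
    rcases hT2.eq_bot_or_eq_top_of_normal (commutator T) inferInstance with h2 | h2
    · apply hTc
      intro a b
      have h1 : ⁅a, b⁆ ∈ commutator T := commutator_mem_commutator (mem_top _) (mem_top _)
      rw [h2, mem_bot, commutatorElement_eq_one_iff_mul_comm] at h1
      exact h1
    · exact h1.ne h2
  have h60 := Cfsg.Agent.H168.NoSolv.sixty_le hTs
  obtain ⟨a, b, hab⟩ := hg T
  have hXc : Nat.card X = Nat.card T ^ n := by
    rw [Nat.card_congr e.toEquiv, Nat.card_pi, Finset.prod_const, Finset.card_univ, Fintype.card_fin]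
  rcases Nat.lt_or_ge n 2 with h2 | h2
  · left
    obtain rfl : n = 1 := by omega
    let E : T ≃* X := (MulEquiv.piUnique (fun _ : Fin 1 => T)).symm.trans e.symm
    refine ⟨⟨E.symm.isSimpleGroup, fun h => hTs ?_⟩, E a, E b, ?_⟩
    · exact Group.isSolvable_of_isSolvable_injective (f := E.toMonoidHom) E.injective
    · have h3 : ({E a, E b} : Set X) = E.toMonoidHom '' {a, b} := by
        rw [Set.image_pair]
        rfl
      rw [h3, ← MonoidHom.map_closure, hab]
      exact Subgroup.map_top_of_surjective _ E.surjective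
  · right
    have hnT : n ≤ Nat.card T := by
      by_contra hlt
      push Not at hlt
      have h3 : 60 ^ 61 ≤ Nat.card T ^ n :=
        (Nat.pow_le_pow_left h60 61).trans (Nat.pow_le_pow_right (by omega) (by omega))
      rw [← hXc] at h3
      omega
    have h4 := card_triples (ι := Fin n) hTc hab (by rwa [Fintype.card_fin]) (by rwa [Fintype.card_fin])
    have h5 : 12744000 ≤ Nat.card T ^ 3 * (Nat.card T - 1) := by
      calc 12744000 = 60 ^ 3 * (60 - 1) := by norm_num
        _ ≤ _ := Nat.mul_le_mul (Nat.pow_le_pow_left h60 3) (Nat.sub_le_sub_right h60 1)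
    refine h5.trans (h4.trans (le_of_eq ?_))
    -- transport along `e`
    refine Set.ncard_congr (fun p _ => (e.symm p.1, e.symm p.2.1, e.symm p.2.2)) ?_ ?_ ?_
    · intro p hp
      show closure ({e.symm p.1, e.symm p.2.1, e.symm p.2.2} : Set X) = ⊤
      have h3 : ({e.symm p.1, e.symm p.2.1, e.symm p.2.2} : Set X) =
          e.symm.toMonoidHom '' {p.1, p.2.1, p.2.2} := by
        rw [Set.image_insert_eq, Set.image_pair]
        rfl
      rw [h3, ← MonoidHom.map_closure, show Subgroup.closure _ = ⊤ from hp]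
      exact Subgroup.map_top_of_surjective _ e.symm.surjective
    · rintro ⟨p1, p2, p3⟩ ⟨q1, q2, q3⟩ _ _ h
      simp only [Prod.mk.injEq, EmbeddingLike.apply_eq_iff_eq] at h
      obtain ⟨rfl, rfl, rfl⟩ := h
      rfl
    · rintro ⟨q1, q2, q3⟩ hq
      refine ⟨(e q1, e q2, e q3), ?_, ?_⟩
      · show closure ({e q1, e q2, e q3} : Set (Fin n → T)) = ⊤
        have h3 : ({e q1, e q2, e q3} : Set (Fin n → T)) = e.toMonoidHom '' {q1, q2, q3} := by
          rw [Set.image_insert_eq, Set.image_pair]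
          rfl
        rw [h3, ← MonoidHom.map_closure, show Subgroup.closure _ = ⊤ from hq]
        exact Subgroup.map_top_of_surjective _ e.surjective
      · simp

variable {B : Type*} [Group B]

/-- the subgroups with many generating triples -/
theorem ncard_triple_le [Finite B] {𝒮 : Set (Subgroup B)} {w : ℕ} (hw0 : 0 < w)
    (hw : ∀ X ∈ 𝒮, w ≤ {p : X × X × X | closure ({p.1, p.2.1, p.2.2} : Set X) = ⊤}.ncard) :
    𝒮.ncard ≤ Nat.card B ^ 3 / w := by
  classical
  rw [Nat.le_div_iff_mul_le hw0]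
  have hfin : 𝒮.Finite := Set.toFinite _
  let G : Subgroup B → Set (B × B × B) := fun X => {p | closure ({p.1, p.2.1, p.2.2} : Set B) = X}
  have hG : ∀ X ∈ 𝒮, w ≤ (G X).ncard := by
    intro X hX
    refine (hw X hX).trans ?_
    refine Set.ncard_le_ncard_of_injOn (fun p => ((p.1 : B), (p.2.1 : B), (p.2.2 : B))) ?_ ?_ (Set.toFinite _)
    · rintro ⟨a, b, c⟩ hp
      show closure ({(a : B), (b : B), (c : B)} : Set B) = X
      have h1 := congrArg (Subgroup.map X.subtype) (show closure ({a, b, c} : Set X) = ⊤ from hp)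
      rw [MonoidHom.map_closure, Set.image_insert_eq, Set.image_pair, ← MonoidHom.range_eq_map, X.range_subtype] at h1
      exact h1
    · rintro ⟨a, b, c⟩ _ ⟨a', b', c'⟩ _ h
      simp only [Prod.mk.injEq] at h
      obtain ⟨h1, h2, h3⟩ := h
      rw [Subtype.ext h1, Subtype.ext h2, Subtype.ext h3]
  have hdis : (hfin.toFinset : Set (Subgroup B)).PairwiseDisjoint fun X => (Set.toFinite (G X)).toFinset := by
    intro X _ Y _ hne
    rw [Function.onFun, Finset.disjoint_left]
    intro p hp hq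
    rw [Set.Finite.mem_toFinset] at hp hq
    exact hne (hp.symm.trans hq)
  have h1 : (hfin.toFinset.biUnion fun X => (Set.toFinite (G X)).toFinset).card ≤ Nat.card (B × B × B) := by
    have := Set.ncard_le_ncard (Set.subset_univ
      ((hfin.toFinset.biUnion fun X => (Set.toFinite (G X)).toFinset : Finset (B × B × B)) : Set (B × B × B)))
      (Set.toFinite _)
    rw [Set.ncard_coe_finset, Set.ncard_univ] at this
    exact this
  rw [Finset.card_biUnion hdis, Nat.card_prod, Nat.card_prod] at h1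
  have e3 : Nat.card B * (Nat.card B * Nat.card B) = Nat.card B ^ 3 := by ring
  rw [e3] at h1
  refine le_trans ?_ h1
  rw [Set.ncard_eq_toFinset_card _ hfin, ← smul_eq_mul]
  apply Finset.card_nsmul_le_sum
  intro X hX
  rw [← Set.ncard_eq_toFinset_card _ (Set.toFinite _)]
  exact hG X (hfin.mem_toFinset.1 hX)

/-- the minimal characteristic subgroups of the members of `𝓜` -/
theorem exists_key [Finite B] {M : Subgroup B} (hnt : M ≠ ⊥)
    (hch : ∀ K : Subgroup M, K.Characteristic → K ≠ ⊥ → ∀ b : B,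
      (∀ k ∈ K.map M.subtype, b * k * b⁻¹ ∈ K.map M.subtype) → b ∈ M) :
    ∃ X : Subgroup B, normalizer (X : Set B) = M ∧ X ≤ M ∧ X ≠ ⊥ ∧
      ∀ Y : Subgroup X, Y.Characteristic → Y = ⊥ ∨ Y = ⊤ := by
  have hMn : Nontrivial M := (Subgroup.nontrivial_iff_ne_bot M).2 hnt
  obtain ⟨Y, hY, hYne, hYmin⟩ := exists_min_char (B := M)
  have hYn : Nontrivial Y := (Subgroup.nontrivial_iff_ne_bot Y).2 hYne
  have hYc : ∀ Z : Subgroup Y, Z.Characteristic → Z = ⊥ ∨ Z = ⊤ := by
    intro Z hZ
    by_cases hZb : Z = ⊥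
    · exact Or.inl hZb
    right
    have h1 := hYmin (Z.map Y.subtype) char_trans (by
      rintro _ ⟨z, _, rfl⟩
      exact z.2) (by
      intro e
      rw [Subgroup.map_eq_bot_iff_of_injective _ Y.subtype_injective] at e
      exact hZb e)
    rw [Subgroup.eq_top_iff']
    intro y
    have h2 : (y : M) ∈ Z.map Y.subtype := by rw [h1]; exact y.2
    obtain ⟨z, hz, e⟩ := h2
    have : z = y := Subtype.ext e
    rw [← this]
    exact hz
  set X : Subgroup B := Y.map M.subtype with hX
  have e : Y ≃* X := Y.equivMapOfInjective _ M.subtype_injective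
  refine ⟨X, ?_, ?_, ?_, ?_⟩
  · apply le_antisymm
    · intro b hb
      exact hch Y hY hYne b fun k hk => (mem_normalizer_iff.1 hb k).1 hk
    · intro m hm
      have hn : Y.Normal := inferInstance
      rw [mem_normalizer_iff]
      have key : ∀ m ∈ M, ∀ k ∈ X, m * k * m⁻¹ ∈ X := by
        rintro m hm _ ⟨k, hk, rfl⟩
        exact ⟨_, hn.conj_mem k hk ⟨m, hm⟩, rfl⟩
      intro k
      refine ⟨key m hm k, fun h => ?_⟩
      have := key m⁻¹ (M.inv_mem hm) _ h
      have e : m⁻¹ * (m * k * m⁻¹) * m⁻¹⁻¹ = k := by group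
      rwa [e] at this
  · rintro _ ⟨y, _, rfl⟩
    exact y.2
  · intro e
    rw [hX, Subgroup.map_eq_bot_iff_of_injective _ M.subtype_injective] at e
    exact hYne e
  · intro Z hZ
    have hZ' : (Z.map e.symm.toMonoidHom).Characteristic := by
      rw [characteristic_iff_map_le]
      rintro φ _ ⟨_, ⟨k, hk, rfl⟩, rfl⟩
      have h1 := characteristic_iff_map_eq.1 hZ ((e.symm.trans φ).trans e)
      have h2 : ((e.symm.trans φ).trans e) k ∈ Z := by
        rw [← h1]
        exact ⟨k, hk, rfl⟩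
      exact ⟨_, h2, by
        show e.symm (e (φ (e.symm k))) = φ (e.symm k)
        rw [MulEquiv.symm_apply_apply]⟩
    rcases hYc _ hZ' with h | h
    · left
      rwa [Subgroup.map_eq_bot_iff_of_injective _ e.symm.injective] at h
    · right
      rw [Subgroup.eq_top_iff']
      intro x
      have : e.symm x ∈ Z.map e.symm.toMonoidHom := by rw [h]; exact mem_top _
      obtain ⟨z, hz, e1⟩ := this
      have : z = x := e.symm.injective e1
      rw [← this]
      exact hz

/-- **General counting theorem.** -/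
theorem ncard_le_gen [Finite B] (hg : ∀ (X : Type) [Group X] [Finite X] [IsSimpleGroup X], ∃ x y : X, closure ({x, y} : Set X) = ⊤) (hB : Nat.card B < 60 ^ 61)
    {𝓜 : Set (Subgroup B)} {c : ℕ} (hc : ∀ M ∈ 𝓜, M.index ≤ c) (hnt : ∀ M ∈ 𝓜, M ≠ ⊥)
    (hch : ∀ M ∈ 𝓜, ∀ K : Subgroup M, K.Characteristic → K ≠ ⊥ → ∀ b : B,
      (∀ k ∈ K.map M.subtype, b * k * b⁻¹ ∈ K.map M.subtype) → b ∈ M) :
    𝓜.ncard ≤ (∑ s ∈ (Nat.card B).primeFactors, gal s ((Nat.card B).factorization s)) * c + Nat.card B ^ 2 / 60 +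
      Nat.card B ^ 3 / 12744000 := by
  classical
  have key : ∀ M ∈ 𝓜, ∃ X : Subgroup B, normalizer (X : Set B) = M ∧
      ((∃ s ∈ (Nat.card B).primeFactors, ElAb s X ∧ X ≠ ⊥) ∨
        ((IsSimpleGroup X ∧ ¬ Group.IsSolvable X) ∧ ∃ a b : X, closure ({a, b} : Set X) = ⊤) ∨
        12744000 ≤ {p : X × X × X | closure ({p.1, p.2.1, p.2.2} : Set X) = ⊤}.ncard) := by
    intro M hM
    obtain ⟨X, h1, _, h3, h4⟩ := exists_key (hnt M hM) (hch M hM)
    refine ⟨X, h1, ?_⟩
    have hXn : Nontrivial X := (Subgroup.nontrivial_iff_ne_bot X).2 h3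
    have hXB : Nat.card X ∣ Nat.card B := Subgroup.card_subgroup_dvd_card X
    rcases char_simple_gen hg h4 ((Nat.le_of_dvd Nat.card_pos hXB).trans_lt hB) with ⟨s, hs, hsd, hel⟩ | h | h
    · left
      refine ⟨s, Nat.mem_primeFactors.2 ⟨hs, hsd.trans hXB, Nat.card_pos.ne'⟩, ⟨?_, ?_⟩, h3⟩
      · intro a ha b hb
        exact Subtype.ext_iff.1 (hel.comm ⟨a, ha⟩ (mem_top _) ⟨b, hb⟩ (mem_top _))
      · intro a ha
        exact Subtype.ext_iff.1 (hel.exp ⟨a, ha⟩ (mem_top _))
    · exact Or.inr (Or.inl h)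
    · exact Or.inr (Or.inr h)
  choose! f hf1 hf2 using key
  have hinj : Set.InjOn f 𝓜 := by
    intro M hM N hN e
    rw [← hf1 M hM, ← hf1 N hN, e]
  rw [← hinj.ncard_image]
  have hsub : f '' 𝓜 ⊆ ((⋃ s ∈ (Nat.card B).primeFactors,
      {X : Subgroup B | ElAb s X ∧ X ≠ ⊥ ∧ (normalizer (X : Set B)).index ≤ c}) ∪
      {X : Subgroup B | (IsSimpleGroup X ∧ ¬ Group.IsSolvable X) ∧ ∃ a b : X, closure ({a, b} : Set X) = ⊤}) ∪
      {X : Subgroup B | 12744000 ≤ {p : X × X × X | closure ({p.1, p.2.1, p.2.2} : Set X) = ⊤}.ncard} := by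
    rintro _ ⟨M, hM, rfl⟩
    rcases hf2 M hM with ⟨s, hs, h1, h2⟩ | h | h
    · left
      left
      simp only [Set.mem_iUnion]
      exact ⟨s, hs, h1, h2, by rw [hf1 M hM]; exact hc M hM⟩
    · left
      right
      exact h
    · right
      exact h
  refine (Set.ncard_le_ncard hsub (Set.toFinite _)).trans ((Set.ncard_union_le _ _).trans (Nat.add_le_add
    ((Set.ncard_union_le _ _).trans (Nat.add_le_add ?_ ?_)) ?_))
  · have hun : ∀ I : Finset ℕ, (⋃ s ∈ I, {X : Subgroup B | ElAb s X ∧ X ≠ ⊥ ∧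
        (normalizer (X : Set B)).index ≤ c}).ncard ≤
        ∑ s ∈ I, {X : Subgroup B | ElAb s X ∧ X ≠ ⊥ ∧ (normalizer (X : Set B)).index ≤ c}.ncard := by
      intro I
      induction I using Finset.induction_on with
      | empty => simp
      | insert j I hj ih =>
        rw [Finset.sum_insert hj, Finset.set_biUnion_insert]
        exact (Set.ncard_union_le _ _).trans (Nat.add_le_add_left ih _)
    refine (hun _).trans ?_
    rw [Finset.sum_mul]
    exact Finset.sum_le_sum fun s hs => ncard_elab_class_le (Nat.prime_of_mem_primeFactors hs)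
  · exact ncard_simple_le (fun X hX => hX.1) (fun X hX => hX.2)
  · exact ncard_triple_le (by norm_num) (fun X hX => hX)

end Cfsg.Agent.H59.EP
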