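import Cfsg.Agent.H59.EP.UB
import Cfsg.Agent.H59.EP.CountG

/-!
# S3499-II UB2 general (helper59): the number of two-point stabilisers, no condition on `p ^ 2 ∣ |A|`

`EPT A Γ`, `A` without abelian normal subgroups `≠ 1`, `|A| < 60 ^ 61`. Then

`r ≤ (∑_{s ∣ |A|} gal s (v_s |A|)) * (|A| / 6) + |A| ^ 2 / 60 + |A| ^ 3 / 12744000`.
-/

set_option autoImplicit false

namespace Cfsg.Agent.H59.EP

open Subgroup Cfsg.Agent.H284

universe u

variable {Q : Type u} [Group Q] [Finite Q] {A : Subgroup Q} {Γ : Subgroup (MulAut Q)}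

/-- the two-point stabilisers as subgroups of `A` satisfy the hypotheses of the counting theorems -/
theorem EPT.transfer (h : EPT A Γ) {μ : ℕ} (hμ0 : 0 < μ)
    (hμ : ∀ x, x ∉ A → μ ≤ Nat.card (A ⊓ cj x A : Subgroup Q)) : ∃ 𝓜 : Set (Subgroup A),
      {M : Subgroup Q | ∃ x, x ∉ A ∧ M = A ⊓ cj x A}.ncard ≤ 𝓜.ncard ∧ (∀ M ∈ 𝓜, M.index ≤ Nat.card A / μ) ∧
      (∀ M ∈ 𝓜, M ≠ ⊥) ∧ (∀ M ∈ 𝓜, μ ≤ Nat.card M) ∧
      ∀ M ∈ 𝓜, ∀ K : Subgroup M, K.Characteristic → K ≠ ⊥ → ∀ b : A,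
        (∀ k ∈ K.map M.subtype, b * k * b⁻¹ ∈ K.map M.subtype) → b ∈ M := by
  classical
  refine ⟨{M | ∃ x, x ∉ A ∧ M = (A ⊓ cj x A).subgroupOf A}, ?_, ?_, ?_, ?_, ?_⟩
  · refine Set.ncard_le_ncard_of_injOn (fun M => M.subgroupOf A) ?_ ?_ (Set.toFinite _)
    · rintro _ ⟨x, hx, rfl⟩
      exact ⟨x, hx, rfl⟩
    · rintro _ ⟨x, _, rfl⟩ _ ⟨y, _, rfl⟩ e
      have e1 := congrArg (Subgroup.map A.subtype) e
      simp only [Subgroup.subgroupOf_map_subtype] at e1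
      rw [inf_eq_left.2 (inf_le_left : A ⊓ cj x A ≤ A), inf_eq_left.2 (inf_le_left : A ⊓ cj y A ≤ A)] at e1
      exact e1
  · rintro _ ⟨x, hx, rfl⟩
    have hc : Nat.card ((A ⊓ cj x A).subgroupOf A) = Nat.card (A ⊓ cj x A : Subgroup Q) :=
      Nat.card_congr (Subgroup.subgroupOfEquivOfLe inf_le_left).toEquiv
    have hmul := ((A ⊓ cj x A).subgroupOf A).card_mul_index
    rw [hc] at hmul
    rw [Nat.le_div_iff_mul_le hμ0, ← hmul, mul_comm]
    exact Nat.mul_le_mul_right _ (hμ x hx)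
  · rintro _ ⟨x, hx, rfl⟩ e
    apply h.M0 x hx
    rw [Subgroup.subgroupOf_eq_bot] at e
    exact e.eq_bot_of_le inf_le_left
  · rintro _ ⟨x, hx, rfl⟩
    have hc : Nat.card ((A ⊓ cj x A).subgroupOf A) = Nat.card (A ⊓ cj x A : Subgroup Q) :=
      Nat.card_congr (Subgroup.subgroupOfEquivOfLe inf_le_left).toEquiv
    rw [hc]
    exact hμ x hx
  · rintro _ ⟨x, hx, rfl⟩ K hK hne b hb
    set E : (A ⊓ cj x A).subgroupOf A ≃* (A ⊓ cj x A : Subgroup Q) :=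
      Subgroup.subgroupOfEquivOfLe (inf_le_left : A ⊓ cj x A ≤ A) with hE
    have hch := char_map E hK
    have hn := h.norm_char hx (K.map E.toMonoidHom) (hK := hch) (by
      intro e
      rw [Subgroup.map_eq_bot_iff_of_injective _ E.injective] at e
      exact hne e) (a := (b : Q)) b.2 (by
      rintro _ ⟨_, ⟨k, hk, rfl⟩, rfl⟩
      obtain ⟨k', hk', e'⟩ := hb _ ⟨k, hk, rfl⟩
      refine ⟨_, ⟨k', hk', rfl⟩, ?_⟩
      have e2 := congrArg (Subtype.val) e'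
      exact e2)
    exact ⟨b.2, hn⟩

/-- **UB2, general form** (parameter `μ`) -/
theorem EPT.ncard_le_gen_of (h : EPT A Γ) (hg : TwoGen.{0}) {μ : ℕ} (hμ0 : 0 < μ)
    (hμ : ∀ x, x ∉ A → μ ≤ Nat.card (A ⊓ cj x A : Subgroup Q)) (hB : Nat.card A < 60 ^ 61) :
    {M : Subgroup Q | ∃ x, x ∉ A ∧ M = A ⊓ cj x A}.ncard ≤
      (∑ s ∈ (Nat.card A).primeFactors, gal s ((Nat.card A).factorization s)) * (Nat.card A / μ) +
        Nat.card A ^ 2 / 60 + Nat.card A ^ 3 / 12744000 := by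
  obtain ⟨𝓜, h1, h2, h3, _, h4⟩ := EPT.transfer h hμ0 hμ
  exact h1.trans (Cfsg.Agent.H59.EP.ncard_le_gen hg hB h2 h3 h4)

/-- **UB2, general form** -/
theorem EPT.ncard_le_gen (h : EPT A Γ) (hg : TwoGen.{0})
    (hab : ∀ K : Subgroup Q, K ≤ A → (∀ a ∈ A, ∀ k ∈ K, a * k * a⁻¹ ∈ K) → (∀ a ∈ K, ∀ b ∈ K, a * b = b * a) → K = ⊥)
    (hB : Nat.card A < 60 ^ 61) :
    {M : Subgroup Q | ∃ x, x ∉ A ∧ M = A ⊓ cj x A}.ncard ≤
      (∑ s ∈ (Nat.card A).primeFactors, gal s ((Nat.card A).factorization s)) * (Nat.card A / 6) +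
        Nat.card A ^ 2 / 60 + Nat.card A ^ 3 / 12744000 :=
  EPT.ncard_le_gen_of h hg (by norm_num) (fun _ hx => EPT.six_le h hab hx) hB

/-- **UB2, general form, evaluated**: `|A|` given by its factorisation `l` -/
theorem EPT.ncard_le_gen_list (h : EPT A Γ) (hg : TwoGen.{0})
    (hab : ∀ K : Subgroup Q, K ≤ A → (∀ a ∈ A, ∀ k ∈ K, a * k * a⁻¹ ∈ K) → (∀ a ∈ K, ∀ b ∈ K, a * b = b * a) → K = ⊥)
    (l : List (ℕ × ℕ)) (h1 : ∀ x ∈ l, x.1.Prime ∧ 0 < x.2) (h2 : (l.map Prod.fst).Nodup)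
    (hc : Nat.card A = (l.map fun x => x.1 ^ x.2).prod) (hB : Nat.card A < 60 ^ 61) :
    {M : Subgroup Q | ∃ x, x ∉ A ∧ M = A ⊓ cj x A}.ncard ≤
      (l.map fun x => gal x.1 x.2).sum * (Nat.card A / 6) + Nat.card A ^ 2 / 60 + Nat.card A ^ 3 / 12744000 := by
  have h3 := EPT.ncard_le_gen h hg hab hB
  have h4 : ∑ s ∈ (Nat.card A).primeFactors, gal s ((Nat.card A).factorization s) =
      (l.map fun x => gal x.1 x.2).sum := by
    rw [hc]
    exact (galSum_list l h1 h2).1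
  rwa [h4] at h3

/-- `gal s ·` is monotone in the number of factors: a bound for all `|A|` dividing a number with factorisation `l`. -/
theorem prod_le_prod_gal {s j a b : ℕ} (hs : 1 < s) (hab : a ≤ b) :
    ∏ i ∈ Finset.range j, (s ^ a - s ^ i) ≤ ∏ i ∈ Finset.range j, (s ^ b - s ^ i) :=
  Finset.prod_le_prod (fun _ _ => Nat.zero_le _) fun _ _ =>
    Nat.sub_le_sub_right (Nat.pow_le_pow_right (by omega) hab) _

theorem gal_mono {s a b : ℕ} (hs : 1 < s) (hab : a ≤ b) : gal s a ≤ gal s b := by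
  rw [gal, gal]
  refine le_trans (Finset.sum_le_sum fun j _ => Nat.div_le_div_right (prod_le_prod_gal hs hab)) ?_
  exact Finset.sum_le_sum_of_subset (Finset.Icc_subset_Icc le_rfl hab)

theorem galSum_le_of_dvd {n N : ℕ} (h : n ∣ N) (hN : N ≠ 0) : galSum n ≤ galSum N := by
  rw [galSum, galSum]
  refine (Finset.sum_le_sum fun s hs => gal_mono (Nat.prime_of_mem_primeFactors hs).one_lt
    ((Nat.factorization_le_iff_dvd (ne_zero_of_dvd_ne_zero hN h) hN).2 h s)).trans ?_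
  exact Finset.sum_le_sum_of_subset (Nat.primeFactors_mono h hN)

/-- **UB2, general form**: `|A|` divides the number with factorisation `l` -/
theorem EPT.ncard_le_gen_dvd (h : EPT A Γ) (hg : TwoGen.{0})
    (hab : ∀ K : Subgroup Q, K ≤ A → (∀ a ∈ A, ∀ k ∈ K, a * k * a⁻¹ ∈ K) → (∀ a ∈ K, ∀ b ∈ K, a * b = b * a) → K = ⊥)
    (l : List (ℕ × ℕ)) (h1 : ∀ x ∈ l, x.1.Prime ∧ 0 < x.2) (h2 : (l.map Prod.fst).Nodup)
    (hc : Nat.card A ∣ (l.map fun x => x.1 ^ x.2).prod) (hB : (l.map fun x => x.1 ^ x.2).prod < 60 ^ 61) :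
    {M : Subgroup Q | ∃ x, x ∉ A ∧ M = A ⊓ cj x A}.ncard ≤
      (l.map fun x => gal x.1 x.2).sum * ((l.map fun x => x.1 ^ x.2).prod / 6) +
        (l.map fun x => x.1 ^ x.2).prod ^ 2 / 60 + (l.map fun x => x.1 ^ x.2).prod ^ 3 / 12744000 := by
  set N := (l.map fun x => x.1 ^ x.2).prod with hN
  obtain ⟨i1, i2, _⟩ := galSum_list l h1 h2
  rw [← hN] at i1 i2
  have hle : Nat.card A ≤ N := Nat.le_of_dvd (Nat.pos_of_ne_zero i2) hc
  have h3 := EPT.ncard_le_gen h hg hab (hle.trans_lt hB)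
  refine h3.trans (Nat.add_le_add (Nat.add_le_add (Nat.mul_le_mul ?_ (Nat.div_le_div_right hle))
    (Nat.div_le_div_right (Nat.pow_le_pow_left hle 2))) (Nat.div_le_div_right (Nat.pow_le_pow_left hle 3)))
  rw [← i1]
  exact galSum_le_of_dvd hc i2

end Cfsg.Agent.H59.EP
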