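import Cfsg.Agent.H59.EP.UB
import Cfsg.Agent.H173.EP.LineBound
import Cfsg.Agent.S3948

/-!
# S3499-II UB2 (helper59), without the hypothesis `TwoGen`
-/

set_option autoImplicit false

namespace Cfsg.Agent.H59.EP

open Subgroup Cfsg.Agent.H284

universe u

theorem twoGen : TwoGen.{u} := fun _ _ _ _ => Cfsg.Agent.S3948.result

variable {Q : Type u} [Group Q] [Finite Q] {A : Subgroup Q} {Γ : Subgroup (MulAut Q)}

/-- **UB2**, `|A|` given by its factorisation `l` -/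
theorem EPT.ncard_le_fin (h : EPT A Γ)
    (hab : ∀ K : Subgroup Q, K ≤ A → (∀ a ∈ A, ∀ k ∈ K, a * k * a⁻¹ ∈ K) → (∀ a ∈ K, ∀ b ∈ K, a * b = b * a) → K = ⊥)
    (l : List (ℕ × ℕ)) (h1 : ∀ x ∈ l, x.1.Prime ∧ 0 < x.2) (h2 : (l.map Prod.fst).Nodup)
    (h5 : ∀ x ∈ l, 5 ≤ x.1 → x.2 = 1) (hc : Nat.card A = (l.map fun x => x.1 ^ x.2).prod) :
    {M : Subgroup Q | ∃ x, x ∉ A ∧ M = A ⊓ cj x A}.ncard ≤
      (l.map fun x => gal x.1 x.2).sum * (Nat.card A / 6) + Nat.card A ^ 2 / 60 :=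
  EPT.ncard_le_list h twoGen hab l h1 h2 h5 hc

/-- **UB1 + UB2**: bound for the index, `|A|` given by its factorisation `l` -/
theorem EPT.index_le_fin (hs : IsSimpleGroup Q) (h : EPT A Γ)
    (hab : ∀ K : Subgroup Q, K ≤ A → (∀ a ∈ A, ∀ k ∈ K, a * k * a⁻¹ ∈ K) → (∀ a ∈ K, ∀ b ∈ K, a * b = b * a) → K = ⊥)
    (l : List (ℕ × ℕ)) (h1 : ∀ x ∈ l, x.1.Prime ∧ 0 < x.2) (h2 : (l.map Prod.fst).Nodup)
    (h5 : ∀ x ∈ l, 5 ≤ x.1 → x.2 = 1) (hc : Nat.card A = (l.map fun x => x.1 ^ x.2).prod) :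
    A.index ≤ 1 + ((l.map fun x => gal x.1 x.2).sum * (Nat.card A / 6) + Nat.card A ^ 2 / 60) *
      (2 * (Nat.card A / 6)) :=
  index_le_of (EPT.ncard_le_fin h hab l h1 h2 h5 hc)
    (Cfsg.Agent.H173.EP.ub1 hs h (by norm_num) fun _ hx => EPT.six_le h hab hx) le_rfl

end Cfsg.Agent.H59.EP
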