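import Cfsg.Agent.H59.EP.Count
import Cfsg.Agent.H284.EP.TForm

/-!
# S3499-II UB2 (helper59): the number of two-point stabilisers

`EPT A Γ`, `A` without abelian normal subgroups `≠ 1`, `p ^ 2 ∤ |A|` for all primes `p ≥ 5`. Then

`r ≤ (∑_{s ∣ |A|} gal s (v_s |A|)) * (|A| / 6) + |A| ^ 2 / 60`,

`r` = number of the groups `A ∩ A^x` (`x ∉ A`). (`gal s a` = number of subspaces `≠ 0` of `F_s^a`.)

`H59.EP.UBFin` removes the hypothesis `TwoGen` (finite simple groups are 2-generated, `S3948`).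
-/

set_option autoImplicit false

namespace Cfsg.Agent.H59.EP

open Subgroup Cfsg.Agent.H284

universe u

/-- every finite simple group is generated by two elements (`S3948`) -/
def TwoGen : Prop := ∀ (X : Type u) [Group X] [Finite X] [IsSimpleGroup X],
  ∃ x y : X, Subgroup.closure ({x, y} : Set X) = ⊤

/-- the characteristic subgroups along isomorphisms -/
theorem char_map {G H : Type*} [Group G] [Group H] (e : G ≃* H) {K : Subgroup G} (hK : K.Characteristic) :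
    (K.map e.toMonoidHom).Characteristic := by
  rw [characteristic_iff_map_le]
  rintro φ _ ⟨_, ⟨k, hk, rfl⟩, rfl⟩
  have h1 := characteristic_iff_map_eq.1 hK ((e.trans φ).trans e.symm)
  have h2 : ((e.trans φ).trans e.symm) k ∈ K := by
    rw [← h1]
    exact ⟨k, hk, rfl⟩
  exact ⟨_, h2, by
    show e (e.symm (φ (e k))) = φ (e k)
    rw [MulEquiv.apply_symm_apply]⟩

variable {Q : Type u} [Group Q] [Finite Q] {A : Subgroup Q} {Γ : Subgroup (MulAut Q)}

/-- the number of two-point stabilisers, `μ` a lower bound for their orders -/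
theorem EPT.ncard_le_of (h : EPT A Γ) (hg : TwoGen.{u}) {μ : ℕ} (hμ0 : 0 < μ)
    (hμ : ∀ x, x ∉ A → μ ≤ Nat.card (A ⊓ cj x A : Subgroup Q))
    (h5 : ∀ p, p.Prime → 5 ≤ p → ¬ p ^ 2 ∣ Nat.card A) :
    {M : Subgroup Q | ∃ x, x ∉ A ∧ M = A ⊓ cj x A}.ncard ≤
      (∑ s ∈ (Nat.card A).primeFactors, gal s ((Nat.card A).factorization s)) * (Nat.card A / μ) +
        Nat.card A ^ 2 / 60 := by
  classical
  set 𝓜 : Set (Subgroup A) := {M | ∃ x, x ∉ A ∧ M = (A ⊓ cj x A).subgroupOf A} with h𝓜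
  have h1 : {M : Subgroup Q | ∃ x, x ∉ A ∧ M = A ⊓ cj x A}.ncard ≤ 𝓜.ncard := by
    refine Set.ncard_le_ncard_of_injOn (fun M => M.subgroupOf A) ?_ ?_ (Set.toFinite _)
    · rintro _ ⟨x, hx, rfl⟩
      exact ⟨x, hx, rfl⟩
    · rintro _ ⟨x, _, rfl⟩ _ ⟨y, _, rfl⟩ e
      have e1 := congrArg (Subgroup.map A.subtype) e
      simp only [Subgroup.subgroupOf_map_subtype] at e1
      rw [inf_eq_left.2 (inf_le_left : A ⊓ cj x A ≤ A), inf_eq_left.2 (inf_le_left : A ⊓ cj y A ≤ A)] at e1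
      exact e1
  refine h1.trans (ncard_le h5 (fun X hX => hg X) ?_ ?_ ?_)
  · rintro _ ⟨x, hx, rfl⟩
    have hc : Nat.card ((A ⊓ cj x A).subgroupOf A) = Nat.card (A ⊓ cj x A : Subgroup Q) :=
      Nat.card_congr (Subgroup.subgroupOfEquivOfLe inf_le_left).toEquiv
    have hmul := ((A ⊓ cj x A).subgroupOf A).card_mul_index
    rw [hc] at hmul
    rw [Nat.le_div_iff_mul_le hμ0, ← hmul, mul_comm]
    exact Nat.mul_le_mul_right _ (hμ x hx)
  · rintro _ ⟨x, hx, rfl⟩ e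
    apply h.M0 x hx
    rw [Subgroup.subgroupOf_eq_bot] at e
    exact e.eq_bot_of_le inf_le_left
  · rintro _ ⟨x, hx, rfl⟩ K hK hne b hb
    have e := Subgroup.subgroupOfEquivOfLe (inf_le_left : A ⊓ cj x A ≤ A)
    set E : (A ⊓ cj x A).subgroupOf A ≃* (A ⊓ cj x A : Subgroup Q) :=
      Subgroup.subgroupOfEquivOfLe (inf_le_left : A ⊓ cj x A ≤ A) with hE
    have hEv : ∀ y, ((E y : (A ⊓ cj x A : Subgroup Q)) : Q) = ((y : A) : Q) := fun y => rfl
    have hch := char_map E hK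
    have hn := h.norm_char hx (K.map E.toMonoidHom) (hK := hch) (by
      intro e
      rw [Subgroup.map_eq_bot_iff_of_injective _ E.injective] at e
      exact hne e) (a := (b : Q)) b.2 (by
      rintro _ ⟨_, ⟨k, hk, rfl⟩, rfl⟩
      obtain ⟨k', hk', e'⟩ := hb _ ⟨k, hk, rfl⟩
      refine ⟨_, ⟨k', hk', rfl⟩, ?_⟩
      have e2 := congrArg (Subtype.val) e'
      exact e2)
    exact ⟨b.2, hn⟩

/-- no `A ∩ A^x` is abelian if `A` has no abelian normal subgroup -/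
theorem EPT.six_le (h : EPT A Γ)
    (hab : ∀ K : Subgroup Q, K ≤ A → (∀ a ∈ A, ∀ k ∈ K, a * k * a⁻¹ ∈ K) → (∀ a ∈ K, ∀ b ∈ K, a * b = b * a) → K = ⊥)
    {x : Q} (hx : x ∉ A) : 6 ≤ Nat.card (A ⊓ cj x A : Subgroup Q) := by
  apply Cfsg.Agent.H59.EP.six_le
  intro hcomm
  obtain ⟨K, h1, h2, h3, h4⟩ := h.abM0 x hx (fun a ha b hb => Subtype.ext_iff.1 (hcomm ⟨a, ha⟩ ⟨b, hb⟩))
  exact h3 (hab K h1 (fun a ha k hk => h2 _ ((h.conj a).2 ha) k hk) h4)

/-- **UB2** -/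
theorem EPT.ncard_le (h : EPT A Γ) (hg : TwoGen.{u})
    (hab : ∀ K : Subgroup Q, K ≤ A → (∀ a ∈ A, ∀ k ∈ K, a * k * a⁻¹ ∈ K) → (∀ a ∈ K, ∀ b ∈ K, a * b = b * a) → K = ⊥)
    (h5 : ∀ p, p.Prime → 5 ≤ p → ¬ p ^ 2 ∣ Nat.card A) :
    {M : Subgroup Q | ∃ x, x ∉ A ∧ M = A ⊓ cj x A}.ncard ≤
      (∑ s ∈ (Nat.card A).primeFactors, gal s ((Nat.card A).factorization s)) * (Nat.card A / 6) +
        Nat.card A ^ 2 / 60 :=
  EPT.ncard_le_of h hg (by norm_num) (fun _ hx => EPT.six_le h hab hx) h5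

omit [Finite Q] in
/-- `soc(A)` simple nonabelian: `A` has no abelian normal subgroup -/
theorem noAb_of_soc {N : Subgroup Q} (hNA : N ≤ A) (hN : ∀ a ∈ A, ∀ n ∈ N, a * n * a⁻¹ ∈ N) (hNs : IsSimpleGroup N)
    (hNc : ¬ ∀ a ∈ N, ∀ b ∈ N, a * b = b * a) (hC : ∀ a ∈ A, (∀ n ∈ N, a * n = n * a) → a = 1) :
    ∀ K : Subgroup Q, K ≤ A → (∀ a ∈ A, ∀ k ∈ K, a * k * a⁻¹ ∈ K) → (∀ a ∈ K, ∀ b ∈ K, a * b = b * a) → K = ⊥ := by
  intro K hKA hK hKc
  have h1 : (K.subgroupOf N).Normal := ⟨fun k hk n => hK n (hNA n.2) k hk⟩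
  have h2 : K ⊓ N = ⊥ := by
    rcases hNs.eq_bot_or_eq_top_of_normal _ h1 with h | h
    · rw [Subgroup.subgroupOf_eq_bot, disjoint_iff] at h
      exact h
    · exfalso
      rw [Subgroup.subgroupOf_eq_top] at h
      exact hNc fun a ha b hb => hKc a (h ha) b (h hb)
  rw [Subgroup.eq_bot_iff_forall]
  intro k hk
  apply hC k (hKA hk)
  intro n hn
  have h3 : k * n * k⁻¹ * n⁻¹ ∈ K ⊓ N := by
    refine ⟨?_, ?_⟩
    · have e : k * n * k⁻¹ * n⁻¹ = k * (n * k⁻¹ * n⁻¹) := by group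
      rw [e]
      exact K.mul_mem hk (hK n (hNA hn) _ (K.inv_mem hk))
    · exact N.mul_mem (hN k (hKA hk) n hn) (N.inv_mem hn)
  rw [h2, mem_bot] at h3
  rw [mul_inv_eq_one, mul_inv_eq_iff_eq_mul] at h3
  exact h3

/-! ### evaluation -/

/-- `∑_{s ∣ n} gal s (v_s n)` -/
def galSum (n : ℕ) : ℕ := ∑ s ∈ n.primeFactors, gal s (n.factorization s)

theorem galSum_one : galSum 1 = 0 := by simp [galSum]

theorem galSum_mul {p e m : ℕ} (hp : p.Prime) (he : 0 < e) (hm : m ≠ 0) (hpm : ¬ p ∣ m) :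
    galSum (p ^ e * m) = gal p e + galSum m := by
  have hpe : p ^ e ≠ 0 := pow_ne_zero _ hp.ne_zero
  have h1 : (p ^ e * m).primeFactors = insert p m.primeFactors := by
    rw [Nat.primeFactors_mul hpe hm, Nat.primeFactors_prime_pow he.ne' hp]
    rfl
  have h2 : p ∉ m.primeFactors := fun h => hpm (Nat.dvd_of_mem_primeFactors h)
  rw [galSum, h1, Finset.sum_insert h2]
  congr 1
  · congr 1
    rw [Nat.factorization_mul hpe hm, Finsupp.add_apply, hp.factorization_pow, Finsupp.single_eq_same,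
      Nat.factorization_eq_zero_of_not_dvd hpm, add_zero]
  · apply Finset.sum_congr rfl
    intro s hs
    congr 1
    have hsp : s ≠ p := by
      rintro rfl
      exact h2 hs
    rw [Nat.factorization_mul hpe hm, Finsupp.add_apply, hp.factorization_pow, Finsupp.single_eq_of_ne hsp,
      zero_add]

/-- `galSum` from a prime factorisation -/
theorem galSum_list (l : List (ℕ × ℕ)) (h1 : ∀ x ∈ l, x.1.Prime ∧ 0 < x.2) (h2 : (l.map Prod.fst).Nodup) :
    galSum (l.map fun x => x.1 ^ x.2).prod = (l.map fun x => gal x.1 x.2).sum ∧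
      (l.map fun x => x.1 ^ x.2).prod ≠ 0 ∧ ∀ p : ℕ, p.Prime → p ∣ (l.map fun x => x.1 ^ x.2).prod → p ∈ l.map Prod.fst := by
  induction l with
  | nil =>
    refine ⟨galSum_one, by simp, ?_⟩
    intro p hp hd
    simp only [List.map_nil, List.prod_nil, Nat.dvd_one] at hd
    exact absurd hd hp.one_lt.ne'
  | cons x l ih =>
    obtain ⟨i1, i2, i3⟩ := ih (fun y hy => h1 y (List.mem_cons_of_mem _ hy)) (by
      rw [List.map_cons, List.nodup_cons] at h2
      exact h2.2)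
    obtain ⟨hx, hx0⟩ := h1 x List.mem_cons_self
    rw [List.map_cons, List.nodup_cons] at h2
    have hnd : ¬ x.1 ∣ (l.map fun x => x.1 ^ x.2).prod := fun hd => h2.1 (i3 _ hx hd)
    rw [List.map_cons, List.map_cons, List.prod_cons, List.sum_cons]
    refine ⟨?_, mul_ne_zero (pow_ne_zero _ hx.ne_zero) i2, ?_⟩
    · rw [galSum_mul hx hx0 i2 hnd, i1]
    · intro p hp hd
      rw [List.map_cons, List.mem_cons]
      rcases (Nat.Prime.dvd_mul hp).1 hd with h | h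
      · left
        exact (Nat.prime_dvd_prime_iff_eq hp hx).1 (hp.dvd_of_dvd_pow h)
      · exact Or.inr (i3 p hp h)

/-- the condition on the primes `≥ 5` from a prime factorisation -/
theorem not_sq_dvd_list (l : List (ℕ × ℕ)) (h1 : ∀ x ∈ l, x.1.Prime ∧ 0 < x.2) (h2 : (l.map Prod.fst).Nodup)
    (h5 : ∀ x ∈ l, 5 ≤ x.1 → x.2 = 1) :
    ∀ p, p.Prime → 5 ≤ p → ¬ p ^ 2 ∣ (l.map fun x => x.1 ^ x.2).prod := by
  induction l with
  | nil =>
    intro p hp _ hd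
    simp only [List.map_nil, List.prod_nil, Nat.dvd_one] at hd
    exact absurd hd (Nat.one_lt_pow (by norm_num) hp.one_lt).ne'
  | cons x l ih =>
    intro p hp hp5 hd
    have h1' : ∀ y ∈ l, y.1.Prime ∧ 0 < y.2 := fun y hy => h1 y (List.mem_cons_of_mem _ hy)
    rw [List.map_cons, List.nodup_cons] at h2
    obtain ⟨_, i2, i3⟩ := galSum_list l h1' h2.2
    obtain ⟨hx, hx0⟩ := h1 x List.mem_cons_self
    have hnd : ¬ x.1 ∣ (l.map fun x => x.1 ^ x.2).prod := fun hd => h2.1 (i3 _ hx hd)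
    rw [List.map_cons, List.prod_cons] at hd
    by_cases hpx : p = x.1
    · rw [← hpx] at hnd hd
      have h6 : x.2 = 1 := h5 x List.mem_cons_self (hpx ▸ hp5)
      rw [h6, pow_one, pow_two] at hd
      exact hnd (Nat.dvd_of_mul_dvd_mul_left hp.pos hd)
    · have hcop : Nat.Coprime (p ^ 2) (x.1 ^ x.2) :=
        Nat.Coprime.pow _ _ ((Nat.coprime_primes hp hx).2 hpx)
      exact ih h1' h2.2 (fun y hy => h5 y (List.mem_cons_of_mem _ hy)) p hp hp5 (hcop.dvd_of_dvd_mul_left hd)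

/-- **UB2, evaluated**: `|A|` given by its factorisation `l`. Use e.g. `l = [(2,4),(3,2),(5,1),(11,1)]`; all numerical
hypotheses are closed by `decide` / `norm_num`. -/
theorem EPT.ncard_le_list (h : EPT A Γ) (hg : TwoGen.{u})
    (hab : ∀ K : Subgroup Q, K ≤ A → (∀ a ∈ A, ∀ k ∈ K, a * k * a⁻¹ ∈ K) → (∀ a ∈ K, ∀ b ∈ K, a * b = b * a) → K = ⊥)
    (l : List (ℕ × ℕ)) (h1 : ∀ x ∈ l, x.1.Prime ∧ 0 < x.2) (h2 : (l.map Prod.fst).Nodup)
    (h5 : ∀ x ∈ l, 5 ≤ x.1 → x.2 = 1) (hc : Nat.card A = (l.map fun x => x.1 ^ x.2).prod) :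
    {M : Subgroup Q | ∃ x, x ∉ A ∧ M = A ⊓ cj x A}.ncard ≤
      (l.map fun x => gal x.1 x.2).sum * (Nat.card A / 6) + Nat.card A ^ 2 / 60 := by
  have h3 := EPT.ncard_le h hg hab (by rw [hc]; exact not_sq_dvd_list l h1 h2 h5)
  have h4 : ∑ s ∈ (Nat.card A).primeFactors, gal s ((Nat.card A).factorization s) =
      (l.map fun x => gal x.1 x.2).sum := by
    rw [hc]
    exact (galSum_list l h1 h2).1
  rwa [h4] at h3

omit [Finite Q] in
/-- **the index**: with the line bound UB1 (`A.index ≤ 1 + r * (2 * (|A| / 6))`) -/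
theorem index_le_of {r n : ℕ} (hr : {M : Subgroup Q | ∃ x, x ∉ A ∧ M = A ⊓ cj x A}.ncard ≤ r)
    (h1 : A.index ≤ 1 + {M : Subgroup Q | ∃ x, x ∉ A ∧ M = A ⊓ cj x A}.ncard * (2 * (Nat.card A / 6)))
    (hn : 1 + r * (2 * (Nat.card A / 6)) ≤ n) : A.index ≤ n :=
  (h1.trans (Nat.add_le_add_left (Nat.mul_le_mul_right _ hr) 1)).trans hn

example : gal 2 4 = 66 := by decide
example : gal 2 7 = 29211 := by decide
example : gal 3 6 = 56631 := by decide
example : ([(2,4),(3,2),(5,1),(11,1)].map fun x => gal x.1 x.2).sum = 73 := by decide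

end Cfsg.Agent.H59.EP
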