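import Cfsg.Agent.H59.EP.UBGen
import Cfsg.Agent.H59.EP.UBFin

/-!
# S3499-II UB1 + UB2 general (helper59), without the hypothesis `TwoGen`
-/

set_option autoImplicit false

namespace Cfsg.Agent.H59.EP

open Subgroup Cfsg.Agent.H284

universe u

variable {Q : Type u} [Group Q] [Finite Q] {A : Subgroup Q} {Γ : Subgroup (MulAut Q)}

/-- **UB2, general form**, `|A|` divides the number with factorisation `l` -/
theorem EPT.ncard_le_gen_fin (h : EPT A Γ)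
    (hab : ∀ K : Subgroup Q, K ≤ A → (∀ a ∈ A, ∀ k ∈ K, a * k * a⁻¹ ∈ K) → (∀ a ∈ K, ∀ b ∈ K, a * b = b * a) → K = ⊥)
    (l : List (ℕ × ℕ)) (h1 : ∀ x ∈ l, x.1.Prime ∧ 0 < x.2) (h2 : (l.map Prod.fst).Nodup)
    (hc : Nat.card A ∣ (l.map fun x => x.1 ^ x.2).prod) (hB : (l.map fun x => x.1 ^ x.2).prod < 60 ^ 61) :
    {M : Subgroup Q | ∃ x, x ∉ A ∧ M = A ⊓ cj x A}.ncard ≤
      (l.map fun x => gal x.1 x.2).sum * ((l.map fun x => x.1 ^ x.2).prod / 6) +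
        (l.map fun x => x.1 ^ x.2).prod ^ 2 / 60 + (l.map fun x => x.1 ^ x.2).prod ^ 3 / 12744000 :=
  EPT.ncard_le_gen_dvd h twoGen hab l h1 h2 hc hB

/-- **UB1 + UB2, general form**: the index -/
theorem EPT.index_le_gen_fin (hs : IsSimpleGroup Q) (h : EPT A Γ)
    (hab : ∀ K : Subgroup Q, K ≤ A → (∀ a ∈ A, ∀ k ∈ K, a * k * a⁻¹ ∈ K) → (∀ a ∈ K, ∀ b ∈ K, a * b = b * a) → K = ⊥)
    (l : List (ℕ × ℕ)) (h1 : ∀ x ∈ l, x.1.Prime ∧ 0 < x.2) (h2 : (l.map Prod.fst).Nodup)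
    (hc : Nat.card A ∣ (l.map fun x => x.1 ^ x.2).prod) (hB : (l.map fun x => x.1 ^ x.2).prod < 60 ^ 61) :
    A.index ≤ 1 + ((l.map fun x => gal x.1 x.2).sum * ((l.map fun x => x.1 ^ x.2).prod / 6) +
        (l.map fun x => x.1 ^ x.2).prod ^ 2 / 60 + (l.map fun x => x.1 ^ x.2).prod ^ 3 / 12744000) *
          (2 * (Nat.card A / 6)) :=
  index_le_of (EPT.ncard_le_gen_fin h hab l h1 h2 hc hB)
    (Cfsg.Agent.H173.EP.ub1 hs h (by norm_num) fun _ hx => EPT.six_le h hab hx) le_rfl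

end Cfsg.Agent.H59.EP
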