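import Cfsg.Agent.H59.EP.Gal
import Cfsg.Agent.H168.Rad
import Cfsg.Agent.H459.Rad

/-!
# S3499-II UB2 (helper59), part 2: the counting theorem in a finite group

`Locals 𝓜`: a set `𝓜` of nonabelian subgroups `M` of the finite group `B` such that `N_B(X) ≤ M` for every
characteristic subgroup `X ≠ 1` of `M`. If `p ^ 2 ∤ |B|` for all primes `p ≥ 5`, then
`|𝓜| ≤ (∑_s gal s (v_s |B|)) * (|B| / 6) + |B| ^ 2 / 60`.
-/

set_option autoImplicit false

namespace Cfsg.Agent.H59.EP

open Subgroup
open scoped commutatorElement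

variable {B : Type*} [Group B]

/-! ### characteristic subgroups -/

theorem char_trans {X : Subgroup B} [hX : X.Characteristic] {Y : Subgroup X} [hY : Y.Characteristic] :
    (Y.map X.subtype).Characteristic := by
  rw [characteristic_iff_map_le]
  intro φ
  rintro _ ⟨_, ⟨y, hy, rfl⟩, rfl⟩
  have hm : X.map φ.toMonoidHom = X := characteristic_iff_map_eq.1 hX φ
  have hφ : ∀ x ∈ X, φ x ∈ X := by
    intro x hx
    rw [← hm]
    exact ⟨x, hx, rfl⟩
  have hφ' : ∀ x ∈ X, φ.symm x ∈ X := by
    intro x hx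
    rw [← hm] at hx
    obtain ⟨z, hz, rfl⟩ := hx
    show φ.symm (φ z) ∈ X
    rwa [MulEquiv.symm_apply_apply]
  let ψ : X ≃* X :=
    { toFun := fun x => ⟨φ x.1, hφ x.1 x.2⟩
      invFun := fun x => ⟨φ.symm x.1, hφ' x.1 x.2⟩
      left_inv := fun x => Subtype.ext (φ.symm_apply_apply x.1)
      right_inv := fun x => Subtype.ext (φ.apply_symm_apply x.1)
      map_mul' := fun x y => Subtype.ext (map_mul φ x.1 y.1) }
  have h1 : Y.map ψ.toMonoidHom = Y := characteristic_iff_map_eq.1 hY ψ
  have h2 : ψ y ∈ Y := by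
    rw [← h1]
    exact ⟨y, hy, rfl⟩
  exact ⟨ψ y, h2, rfl⟩

/-- a minimal characteristic subgroup -/
theorem exists_min_char [Finite B] [Nontrivial B] : ∃ X : Subgroup B, X.Characteristic ∧ X ≠ ⊥ ∧
    ∀ Y : Subgroup B, Y.Characteristic → Y ≤ X → Y ≠ ⊥ → Y = X := by
  have hfin : {X : Subgroup B | X.Characteristic ∧ X ≠ ⊥}.Finite := Set.toFinite _
  obtain ⟨X, hX⟩ := hfin.exists_minimal ⟨⊤, inferInstance, top_ne_bot⟩
  refine ⟨X, hX.prop.1, hX.prop.2, ?_⟩
  intro Y hY hYX hne
  exact le_antisymm hYX (hX.le_of_le ⟨hY, hne⟩ hYX)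

/-- a nonsolvable group has a prime divisor `≥ 5` -/
theorem exists_prime_ge_five {H : Type*} [Group H] [Finite H] (hc : ¬ Group.IsSolvable H) :
    ∃ p : ℕ, p.Prime ∧ 5 ≤ p ∧ p ∣ Nat.card H := by
  by_contra hcon
  push Not at hcon
  have h1 : ∀ q : ℕ, q.Prime → q ∣ Nat.card H → q = 2 ∨ q = 3 := by
    intro q hq hqd
    have h2 : q < 5 := by
      by_contra h
      push Not at h
      exact hcon q hq h hqd
    interval_cases q <;> simp_all (config := { decide := true })
  have h2 : Nat.card H = 2 ^ (Nat.card H).factorization 2 * 3 ^ (Nat.card H).factorization 3 := by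
    apply Nat.eq_of_factorization_eq Nat.card_pos.ne' (by positivity)
    intro q
    rw [Nat.factorization_mul (by positivity) (by positivity), Finsupp.add_apply,
      Nat.Prime.factorization_pow Nat.prime_two, Nat.Prime.factorization_pow Nat.prime_three]
    by_cases hq2 : q = 2
    · subst hq2; simp
    · by_cases hq3 : q = 3
      · subst hq3; simp
      · rw [Finsupp.single_eq_of_ne (by simpa using hq2),
          Finsupp.single_eq_of_ne (by simpa using hq3), add_zero]
        by_cases hq : q.Prime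
        · by_cases hd : q ∣ Nat.card H
          · rcases h1 q hq hd with h | h <;> contradiction
          · exact Nat.factorization_eq_zero_of_not_dvd hd
        · exact Nat.factorization_eq_zero_of_not_prime _ hq
  exact hc (Cfsg.Agent.H168.NoSolv.solvable_of_two_three h2)

theorem card_mul_dvd {X : Type*} [Group X] [Finite X] {N K : Subgroup X} [K.Normal] (h : N ⊓ K = ⊥) :
    Nat.card N * Nat.card K ∣ Nat.card X := by
  have h1 : Nat.card (N.map (QuotientGroup.mk' K)) = Nat.card N := by
    symm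
    apply Nat.card_congr
    refine Equiv.ofBijective (fun n => ⟨QuotientGroup.mk' K n, ⟨n, n.2, rfl⟩⟩) ⟨?_, ?_⟩
    · intro a b hab
      have h2 : (QuotientGroup.mk' K (a : X)) = QuotientGroup.mk' K b := Subtype.ext_iff.1 hab
      have h3 : (a : X)⁻¹ * b ∈ K := QuotientGroup.eq.1 h2
      have h4 : (a : X)⁻¹ * b ∈ N ⊓ K := ⟨N.mul_mem (N.inv_mem a.2) b.2, h3⟩
      rw [h, mem_bot, inv_mul_eq_one] at h4
      exact Subtype.ext h4
    · rintro ⟨_, n, hn, rfl⟩
      exact ⟨⟨n, hn⟩, rfl⟩
  have h2 : Nat.card N ∣ Nat.card (X ⧸ K) := by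
    rw [← h1]
    exact Subgroup.card_subgroup_dvd_card _
  have h3 : Nat.card (X ⧸ K) * Nat.card K = Nat.card X := (Subgroup.card_eq_card_quotient_mul_card_subgroup K).symm
  rw [← h3]
  exact Nat.mul_dvd_mul_right h2 _

/-- characteristically simple groups: elementary abelian, or simple if `p ^ 2 ∤ |X|` for `p ≥ 5` -/
theorem char_simple {X : Type*} [Group X] [Finite X] [Nontrivial X]
    (hc : ∀ Y : Subgroup X, Y.Characteristic → Y = ⊥ ∨ Y = ⊤) (h5 : ∀ p, p.Prime → 5 ≤ p → ¬ p ^ 2 ∣ Nat.card X) :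
    (∃ s : ℕ, s.Prime ∧ s ∣ Nat.card X ∧ ElAb s (⊤ : Subgroup X)) ∨ (IsSimpleGroup X ∧ ¬ Group.IsSolvable X) := by
  by_cases hcomm : ∀ a b : X, a * b = b * a
  · left
    obtain ⟨s, hs, hsd⟩ := Nat.exists_prime_and_dvd (n := Nat.card X) (by
      have := Finite.one_lt_card (α := X)
      omega)
    have : Fact s.Prime := ⟨hs⟩
    obtain ⟨x, hx⟩ := exists_prime_orderOf_dvd_card' s hsd
    let Y : Subgroup X :=
      { carrier := {y | y ^ s = 1}
        one_mem' := one_pow s
        mul_mem' := fun {a b} ha hb => by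
          show (a * b) ^ s = 1
          rw [(show Commute a b from hcomm a b).mul_pow, show a ^ s = 1 from ha, show b ^ s = 1 from hb, one_mul]
        inv_mem' := fun {a} ha => by
          show a⁻¹ ^ s = 1
          rw [inv_pow, show a ^ s = 1 from ha, inv_one] }
    have hY : Y.Characteristic := by
      rw [characteristic_iff_map_le]
      rintro φ _ ⟨y, hy, rfl⟩
      show (φ y) ^ s = 1
      rw [← map_pow, show y ^ s = 1 from hy, map_one]
    refine ⟨s, hs, hsd, fun a _ b _ => hcomm a b, ?_⟩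
    rcases hc Y hY with h | h
    · exfalso
      have h1 : x ∈ Y := by
        show x ^ s = 1
        rw [← hx, pow_orderOf_eq_one]
      rw [h, mem_bot] at h1
      rw [h1, orderOf_one] at hx
      exact hs.one_lt.ne hx
    · intro a _
      have h1 : a ∈ Y := by rw [h]; exact mem_top _
      exact h1
  · right
    have hnc : ¬ Group.IsSolvable X := by
      intro hsol
      have hch : (commutator X).Characteristic := inferInstance
      rcases hc _ hch with h | h
      · apply hcomm
        intro a b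
        have h1 : ⁅a, b⁆ ∈ commutator X := commutator_mem_commutator (mem_top _) (mem_top _)
        rw [h, mem_bot, commutatorElement_eq_one_iff_mul_comm] at h1
        exact h1
      · have h1 : commutator X < ⊤ := Group.IsSolvable.commutator_lt_top_of_nontrivial X
        exact h1.ne h
    refine ⟨?_, hnc⟩
    -- the solvable normal subgroups are trivial
    have hrad : ∀ N : Subgroup X, N.Normal → Group.IsSolvable N → N = ⊥ := by
      intro N hN hNs
      rcases hc _ (Cfsg.Agent.H459.Rad.rad_spec (G := X)).1 with h | h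
      · rw [eq_bot_iff, ← h]
        exact Cfsg.Agent.H459.Rad.le_rad hN hNs
      · exact absurd (Cfsg.Agent.H459.Rad.rad_eq_top_iff.1 h) hnc
    -- a minimal normal subgroup
    have hfin : {N : Subgroup X | N.Normal ∧ N ≠ ⊥}.Finite := Set.toFinite _
    obtain ⟨N, hN⟩ := hfin.exists_minimal ⟨⊤, inferInstance, top_ne_bot⟩
    have hNn : N.Normal := hN.prop.1
    have hNne : N ≠ ⊥ := hN.prop.2
    have hmin : ∀ K : Subgroup X, K.Normal → K ≤ N → K = ⊥ ∨ K = N := by
      intro K hK hKN
      by_cases h : K = ⊥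
      · exact Or.inl h
      · exact Or.inr (le_antisymm hKN (hN.le_of_le ⟨hK, h⟩ hKN))
    have hNs : ¬ Group.IsSolvable N := fun h => hNne (hrad N hNn h)
    obtain ⟨p, hp, hp5, hpN⟩ := exists_prime_ge_five hNs
    have hNch : N.Characteristic := by
      rw [characteristic_iff_map_eq]
      intro φ
      have hn' : (N.map φ.toMonoidHom).Normal := hNn.map _ φ.surjective
      have hcard : Nat.card (N.map φ.toMonoidHom) = Nat.card N :=
        (Nat.card_congr (N.equivMapOfInjective _ φ.injective).toEquiv).symm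
      rcases hmin (N ⊓ N.map φ.toMonoidHom) (by infer_instance) (inf_le_left) with h | h
      · exfalso
        apply h5 p hp hp5
        have h1 : Nat.card N * Nat.card (N.map φ.toMonoidHom) ∣ Nat.card X := card_mul_dvd h
        rw [hcard] at h1
        rw [pow_two]
        exact (Nat.mul_dvd_mul hpN hpN).trans h1
      · have h1 : N ≤ N.map φ.toMonoidHom := le_trans (le_of_eq h.symm) inf_le_right
        exact (Subgroup.eq_of_le_of_card_ge h1 hcard.le).symm
    have hNtop : N = ⊤ := (hc N hNch).resolve_left hNne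
    refine { exists_pair_ne := exists_pair_ne X, eq_bot_or_eq_top_of_normal := fun K hK => ?_ }
    rcases hmin K hK (by rw [hNtop]; exact le_top) with h | h
    · exact Or.inl h
    · exact Or.inr (h.trans hNtop)

/-! ### the two classes -/

/-- conjugacy classes of subgroups -/
theorem ncard_conj_le [Finite B] (X₀ : Subgroup B) {𝒳 : Set (Subgroup B)}
    (h : ∀ X ∈ 𝒳, ∃ g : B, X = X₀.map (MulAut.conj g).toMonoidHom) : 𝒳.ncard ≤ (normalizer (X₀ : Set B)).index := by
  classical
  have hsub : 𝒳 ⊆ Set.range fun c : B ⧸ normalizer (X₀ : Set B) => X₀.map (MulAut.conj c.out).toMonoidHom := by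
    intro X hX
    obtain ⟨g, rfl⟩ := h X hX
    refine ⟨(g : B ⧸ normalizer (X₀ : Set B)), ?_⟩
    obtain ⟨n, hn⟩ := QuotientGroup.mk_out_eq_mul (normalizer (X₀ : Set B)) g
    show X₀.map (MulAut.conj ((g : B ⧸ normalizer (X₀ : Set B)).out)).toMonoidHom = _
    rw [hn]
    have h1 : X₀.map (MulAut.conj (n : B)).toMonoidHom = X₀ := by
      ext y
      constructor
      · rintro ⟨x, hx, rfl⟩
        exact (mem_normalizer_iff.1 n.2 x).1 hx
      · intro hy
        refine ⟨(n : B)⁻¹ * y * n, ?_, ?_⟩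
        · have := (mem_normalizer_iff.1 n.2 ((n : B)⁻¹ * y * n)).2
          apply this
          have e : (n : B) * ((n : B)⁻¹ * y * n) * (n : B)⁻¹ = y := by group
          rw [e]
          exact hy
        · show (n : B) * ((n : B)⁻¹ * y * n) * (n : B)⁻¹ = y
          group
    conv_rhs => rw [← h1, Subgroup.map_map]
    congr 1
    ext y
    show g * n * y * (g * n)⁻¹ = g * (n * y * (n : B)⁻¹) * g⁻¹
    group
  refine (Set.ncard_le_ncard hsub (Set.toFinite _)).trans ?_
  rw [← Set.image_univ]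
  refine (Set.ncard_image_le (Set.toFinite _)).trans ?_
  rw [Set.ncard_univ]
  exact le_rfl

/-- sets of subgroups which are conjugate to one of a set `𝓔` -/
theorem ncard_le_mul [Finite B] {𝒳 𝓔 : Set (Subgroup B)} {c : ℕ}
    (h1 : ∀ X ∈ 𝒳, ∃ E ∈ 𝓔, ∃ g : B, X = E.map (MulAut.conj g).toMonoidHom)
    (h2 : ∀ X ∈ 𝒳, (normalizer (X : Set B)).index ≤ c) : 𝒳.ncard ≤ 𝓔.ncard * c := by
  classical
  have hfin : 𝓔.Finite := Set.toFinite _
  have hsub : 𝒳 ⊆ ⋃ E ∈ hfin.toFinset, {X ∈ 𝒳 | ∃ g : B, X = E.map (MulAut.conj g).toMonoidHom} := by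
    intro X hX
    obtain ⟨E, hE, g, hg⟩ := h1 X hX
    simp only [Set.mem_iUnion]
    exact ⟨E, hfin.mem_toFinset.2 hE, hX, g, hg⟩
  have hun : ∀ I : Finset (Subgroup B), (⋃ E ∈ I, {X ∈ 𝒳 | ∃ g : B, X = E.map (MulAut.conj g).toMonoidHom}).ncard ≤
      ∑ E ∈ I, {X ∈ 𝒳 | ∃ g : B, X = E.map (MulAut.conj g).toMonoidHom}.ncard := by
    intro I
    induction I using Finset.induction_on with
    | empty => simp
    | insert j I hj ih =>
      rw [Finset.sum_insert hj, Finset.set_biUnion_insert]
      exact (Set.ncard_union_le _ _).trans (Nat.add_le_add_left ih _)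
  refine (Set.ncard_le_ncard hsub (Set.toFinite _)).trans ((hun _).trans ?_)
  rw [Set.ncard_eq_toFinset_card _ hfin, ← smul_eq_mul]
  apply Finset.sum_le_card_nsmul
  intro E hE
  by_cases hne : {X ∈ 𝒳 | ∃ g : B, X = E.map (MulAut.conj g).toMonoidHom} = ∅
  · rw [hne, Set.ncard_empty]
    exact Nat.zero_le _
  · obtain ⟨X₀, hX₀, g₀, hg₀⟩ := Set.nonempty_iff_ne_empty.2 hne
    refine le_trans (ncard_conj_le X₀ ?_) (h2 X₀ hX₀)
    rintro X ⟨hX, g, rfl⟩
    refine ⟨g * g₀⁻¹, ?_⟩
    rw [hg₀, Subgroup.map_map]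
    congr 1
    ext y
    show g * y * g⁻¹ = g * g₀⁻¹ * (g₀ * y * g₀⁻¹) * (g * g₀⁻¹)⁻¹
    group

/-- the elementary abelian subgroups with normaliser of index at most `c` -/
theorem ncard_elab_class_le [Finite B] {s : ℕ} (hs : s.Prime) {c : ℕ} :
    {X : Subgroup B | ElAb s X ∧ X ≠ ⊥ ∧ (normalizer (X : Set B)).index ≤ c}.ncard ≤
      gal s ((Nat.card B).factorization s) * c := by
  have : Fact s.Prime := ⟨hs⟩
  let P : Sylow s B := default
  have hP : Nat.card (P : Subgroup B) = s ^ (Nat.card B).factorization s := P.card_eq_multiplicity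
  refine le_trans (ncard_le_mul (𝓔 := {E : Subgroup B | E ≤ (P : Subgroup B) ∧ ElAb s E ∧ E ≠ ⊥}) ?_
    (fun X hX => hX.2.2)) (Nat.mul_le_mul_right _ (ncard_elab_le hs hP))
  rintro X ⟨h1, h2, _⟩
  have hps : IsPGroup s X := by
    rintro ⟨y, hy⟩
    refine ⟨1, Subtype.ext ?_⟩
    rw [pow_one]
    exact h1.exp y hy
  obtain ⟨R, hR⟩ := hps.exists_le_sylow
  obtain ⟨g, hg⟩ := MulAction.exists_smul_eq B R P
  refine ⟨X.map (MulAut.conj g).toMonoidHom, ⟨?_, ⟨?_, ?_⟩, ?_⟩, g⁻¹, ?_⟩
  · rw [← hg, Sylow.coe_subgroup_smul]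
    rintro _ ⟨x, hx, rfl⟩
    exact Subgroup.smul_mem_pointwise_smul _ _ _ (hR hx)
  · rintro _ ⟨a, ha, rfl⟩ _ ⟨b, hb, rfl⟩
    rw [← map_mul, ← map_mul, h1.comm a ha b hb]
  · rintro _ ⟨a, ha, rfl⟩
    rw [← map_pow, h1.exp a ha, map_one]
  · intro e
    rw [Subgroup.map_eq_bot_iff_of_injective _ (MulAut.conj g).injective] at e
    exact h2 e
  · rw [Subgroup.map_map]
    conv_lhs => rw [← Subgroup.map_id X]
    congr 1
    ext y
    show y = g⁻¹ * (g * y * g⁻¹) * g⁻¹⁻¹
    group

/-- the nonabelian simple subgroups -/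
theorem ncard_simple_le [Finite B] {𝒮 : Set (Subgroup B)} (hs : ∀ X ∈ 𝒮, IsSimpleGroup X ∧ ¬ Group.IsSolvable X)
    (hgen : ∀ X ∈ 𝒮, ∃ a b : X, closure ({a, b} : Set X) = ⊤) : 𝒮.ncard ≤ Nat.card B ^ 2 / 60 := by
  classical
  rw [Nat.le_div_iff_mul_le (by norm_num)]
  have hfin : 𝒮.Finite := Set.toFinite _
  let G : Subgroup B → Set (B × B) := fun X => {p | closure ({p.1, p.2} : Set B) = X}
  have hG : ∀ X ∈ 𝒮, 60 ≤ (G X).ncard := by
    intro X hX
    obtain ⟨hXs, hXn⟩ := hs X hX
    obtain ⟨a, b, hab⟩ := hgen X hX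
    have h60 := Cfsg.Agent.H168.NoSolv.sixty_le hXn
    refine h60.trans ?_
    have hcl : closure ({(a : B), (b : B)} : Set B) = X := by
      have h1 := congrArg (Subgroup.map X.subtype) hab
      rw [MonoidHom.map_closure, Set.image_pair, ← MonoidHom.range_eq_map, X.range_subtype] at h1
      exact h1
    have hinj : Set.InjOn (fun g : B => (g * a * g⁻¹, g * b * g⁻¹)) (X : Set B) := by
      intro g hg k hk e
      simp only [Prod.mk.injEq] at e
      have h1 : ∀ x ∈ X, (k⁻¹ * g) * x = x * (k⁻¹ * g) := by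
        have hle : X ≤ centralizer {k⁻¹ * g} := by
          rw [← hcl, closure_le]
          rintro x (rfl | rfl)
          · rw [SetLike.mem_coe, mem_centralizer_singleton_iff]
            have h2 := e.1
            rw [mul_inv_eq_iff_eq_mul] at h2
            have h3 : k⁻¹ * (g * a) = a * k⁻¹ * g := by rw [h2]; group
            rw [mul_assoc k⁻¹ g, h3, mul_assoc]
          · rw [SetLike.mem_coe, mem_centralizer_singleton_iff]
            have h2 := e.2
            rw [mul_inv_eq_iff_eq_mul] at h2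
            have h3 : k⁻¹ * (g * b) = b * k⁻¹ * g := by rw [h2]; group
            rw [mul_assoc k⁻¹ g, h3, mul_assoc]
        intro x hx
        exact (mem_centralizer_singleton_iff.1 (hle hx)).symm
      have hz : (⟨k⁻¹ * g, mul_mem (inv_mem hk) hg⟩ : X) ∈ center X := by
        rw [mem_center_iff]
        intro x
        exact Subtype.ext (h1 x x.2).symm
      have hzb : center X = ⊥ := by
        rcases hXs.eq_bot_or_eq_top_of_normal (center X) inferInstance with h2 | h2
        · exact h2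
        · exfalso
          apply hXn
          apply Group.isSolvable_of_comm
          intro x y
          have : y ∈ center X := by rw [h2]; exact mem_top _
          exact mem_center_iff.1 this x
      rw [hzb, mem_bot] at hz
      have h2 : k⁻¹ * g = 1 := Subtype.ext_iff.1 hz
      rw [inv_mul_eq_one] at h2
      exact h2.symm
    have hcard : Nat.card X = ((fun g : B => (g * (a : B) * g⁻¹, g * (b : B) * g⁻¹)) '' (X : Set B)).ncard := by
      rw [hinj.ncard_image]
      rfl
    rw [hcard]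
    refine Set.ncard_le_ncard ?_ (Set.toFinite _)
    rintro _ ⟨g, hg, rfl⟩
    show closure ({g * (a : B) * g⁻¹, g * (b : B) * g⁻¹} : Set B) = X
    have h1 : ({g * (a : B) * g⁻¹, g * (b : B) * g⁻¹} : Set B) = (MulAut.conj g).toMonoidHom '' {(a : B), (b : B)} := by
      rw [Set.image_pair]
      rfl
    rw [h1, ← MonoidHom.map_closure, hcl]
    ext y
    constructor
    · rintro ⟨x, hx, rfl⟩
      exact X.mul_mem (X.mul_mem hg hx) (X.inv_mem hg)
    · intro hy
      refine ⟨g⁻¹ * y * g, X.mul_mem (X.mul_mem (X.inv_mem hg) hy) hg, ?_⟩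
      show g * (g⁻¹ * y * g) * g⁻¹ = y
      group
  have hdis : (hfin.toFinset : Set (Subgroup B)).PairwiseDisjoint fun X => (Set.toFinite (G X)).toFinset := by
    intro X _ Y _ hne
    rw [Function.onFun, Finset.disjoint_left]
    intro p hp hq
    rw [Set.Finite.mem_toFinset] at hp hq
    exact hne (hp.symm.trans hq)
  have h1 : (hfin.toFinset.biUnion fun X => (Set.toFinite (G X)).toFinset).card ≤ Nat.card (B × B) := by
    have := Set.ncard_le_ncard (Set.subset_univ
      ((hfin.toFinset.biUnion fun X => (Set.toFinite (G X)).toFinset : Finset (B × B)) : Set (B × B))) (Set.toFinite _)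
    rw [Set.ncard_coe_finset, Set.ncard_univ] at this
    exact this
  rw [Finset.card_biUnion hdis, Nat.card_prod, ← pow_two] at h1
  refine le_trans ?_ h1
  rw [Set.ncard_eq_toFinset_card _ hfin, ← smul_eq_mul]
  apply Finset.card_nsmul_le_sum
  intro X hX
  rw [← Set.ncard_eq_toFinset_card _ (Set.toFinite _)]
  exact hG X (hfin.mem_toFinset.1 hX)

/-! ### the main counting theorem -/

/-- a nonabelian group has at least six elements -/
theorem six_le [Finite B] (h : ¬ ∀ a b : B, a * b = b * a) : 6 ≤ Nat.card B := by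
  by_contra hlt
  push Not at hlt
  apply h
  have hcyc : IsCyclic B → ∀ a b : B, a * b = b * a := fun hc a b =>
    (IsCyclic.isMulCommutative (α := B)).is_comm.comm a b
  have h0 : 0 < Nat.card B := Nat.card_pos
  have hprime : (Nat.card B).Prime → ∀ a b : B, a * b = b * a := by
    intro hp
    have : Fact (Nat.card B).Prime := ⟨hp⟩
    exact hcyc (isCyclic_of_prime_card (p := Nat.card B) rfl)
  generalize hn : Nat.card B = n at *
  interval_cases n
  · have : Subsingleton B := (Nat.card_eq_one_iff_unique.1 hn).1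
    intro a b
    exact Subsingleton.elim _ _
  · exact hprime (by norm_num)
  · exact hprime (by norm_num)
  · have : Fact (Nat.Prime 2) := ⟨Nat.prime_two⟩
    intro a b
    have h2 : Nat.card B = 2 ^ 2 := by rw [hn]; norm_num
    have := IsPGroup.isMulCommutative_of_card_eq_prime_sq h2
    exact mul_comm' a b
  · exact hprime (by norm_num)

/-- **Counting theorem**: `𝓜` a set of subgroups `M` of `B` of index at most `c`, not abelian, with `N_B(K) ≤ M` for
all characteristic subgroups `K ≠ 1` of `M`. -/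
theorem ncard_le [Finite B] (h5 : ∀ p, p.Prime → 5 ≤ p → ¬ p ^ 2 ∣ Nat.card B)
    (hgen : ∀ X : Subgroup B, IsSimpleGroup X → ∃ a b : X, closure ({a, b} : Set X) = ⊤)
    {𝓜 : Set (Subgroup B)} {c : ℕ} (hc : ∀ M ∈ 𝓜, M.index ≤ c) (hnt : ∀ M ∈ 𝓜, M ≠ ⊥)
    (hch : ∀ M ∈ 𝓜, ∀ K : Subgroup M, K.Characteristic → K ≠ ⊥ → ∀ b : B,
      (∀ k ∈ K.map M.subtype, b * k * b⁻¹ ∈ K.map M.subtype) → b ∈ M) :
    𝓜.ncard ≤ (∑ s ∈ (Nat.card B).primeFactors, gal s ((Nat.card B).factorization s)) * c + Nat.card B ^ 2 / 60 := by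
  classical
  -- the minimal characteristic subgroup
  have key : ∀ M ∈ 𝓜, ∃ X : Subgroup B, normalizer (X : Set B) = M ∧
      ((∃ s ∈ (Nat.card B).primeFactors, ElAb s X ∧ X ≠ ⊥) ∨
        ((IsSimpleGroup X ∧ ¬ Group.IsSolvable X) ∧ ∃ a b : X, closure ({a, b} : Set X) = ⊤)) := by
    intro M hM
    have hMn : Nontrivial M := (Subgroup.nontrivial_iff_ne_bot M).2 (hnt M hM)
    obtain ⟨Y, hY, hYne, hYmin⟩ := exists_min_char (B := M)
    have hYn : Nontrivial Y := (Subgroup.nontrivial_iff_ne_bot Y).2 hYne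
    have hYc : ∀ Z : Subgroup Y, Z.Characteristic → Z = ⊥ ∨ Z = ⊤ := by
      intro Z hZ
      by_cases hZb : Z = ⊥
      · exact Or.inl hZb
      right
      have h1 := hYmin (Z.map Y.subtype) char_trans (by
        rintro _ ⟨z, _, rfl⟩
        exact z.2) (by
        intro e
        rw [Subgroup.map_eq_bot_iff_of_injective _ Y.subtype_injective] at e
        exact hZb e)
      rw [Subgroup.eq_top_iff']
      intro y
      have h2 : (y : M) ∈ Z.map Y.subtype := by rw [h1]; exact y.2
      obtain ⟨z, hz, e⟩ := h2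
      have : z = y := Subtype.ext e
      rw [← this]
      exact hz
    set X : Subgroup B := Y.map M.subtype with hX
    have hcard : Nat.card X = Nat.card Y :=
      (Nat.card_congr (Y.equivMapOfInjective _ M.subtype_injective).toEquiv).symm
    have e : Y ≃* X := Y.equivMapOfInjective _ M.subtype_injective
    have hXB : Nat.card Y ∣ Nat.card B := by
      rw [← hcard]
      exact Subgroup.card_subgroup_dvd_card X
    have hXne : X ≠ ⊥ := by
      intro e
      rw [hX, Subgroup.map_eq_bot_iff_of_injective _ M.subtype_injective] at e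
      exact hYne e
    refine ⟨X, ?_, ?_⟩
    · apply le_antisymm
      · intro b hb
        exact hch M hM Y hY hYne b fun k hk => (mem_normalizer_iff.1 hb k).1 hk
      · intro m hm
        have hn : Y.Normal := inferInstance
        rw [mem_normalizer_iff]
        have key : ∀ m ∈ M, ∀ k ∈ X, m * k * m⁻¹ ∈ X := by
          rintro m hm _ ⟨k, hk, rfl⟩
          exact ⟨_, hn.conj_mem k hk ⟨m, hm⟩, rfl⟩
        intro k
        refine ⟨key m hm k, fun h => ?_⟩
        have := key m⁻¹ (M.inv_mem hm) _ h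
        have e : m⁻¹ * (m * k * m⁻¹) * m⁻¹⁻¹ = k := by group
        rwa [e] at this
    · rcases char_simple hYc (fun p hp hp5 hd => h5 p hp hp5 (hd.trans hXB)) with ⟨s, hs, hsd, hel⟩ | ⟨h1, h2⟩
      · left
        refine ⟨s, Nat.mem_primeFactors.2 ⟨hs, hsd.trans hXB, Nat.card_pos.ne'⟩, ⟨?_, ?_⟩, hXne⟩
        · rintro _ ⟨a, ha, rfl⟩ _ ⟨b, hb, rfl⟩
          have := hel.comm ⟨a, ha⟩ (mem_top _) ⟨b, hb⟩ (mem_top _)
          have h1 : a * b = b * a := Subtype.ext_iff.1 this
          rw [← map_mul, ← map_mul, h1]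
        · rintro _ ⟨a, ha, rfl⟩
          have := hel.exp ⟨a, ha⟩ (mem_top _)
          have h1 : a ^ s = 1 := Subtype.ext_iff.1 this
          rw [← map_pow, h1, map_one]
      · right
        have hXs : IsSimpleGroup X := e.symm.isSimpleGroup
        refine ⟨⟨hXs, fun h => h2 ?_⟩, hgen X hXs⟩
        exact Group.isSolvable_of_isSolvable_injective (f := e.toMonoidHom) e.injective
  choose! f hf1 hf2 using key
  have hinj : Set.InjOn f 𝓜 := by
    intro M hM N hN e
    rw [← hf1 M hM, ← hf1 N hN, e]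
  rw [← hinj.ncard_image]
  have hsub : f '' 𝓜 ⊆ (⋃ s ∈ (Nat.card B).primeFactors,
      {X : Subgroup B | ElAb s X ∧ X ≠ ⊥ ∧ (normalizer (X : Set B)).index ≤ c}) ∪
      {X : Subgroup B | (IsSimpleGroup X ∧ ¬ Group.IsSolvable X) ∧ ∃ a b : X, closure ({a, b} : Set X) = ⊤} := by
    rintro _ ⟨M, hM, rfl⟩
    rcases hf2 M hM with ⟨s, hs, h1, h2⟩ | h
    · left
      simp only [Set.mem_iUnion]
      exact ⟨s, hs, h1, h2, by rw [hf1 M hM]; exact hc M hM⟩
    · right
      exact h
  refine (Set.ncard_le_ncard hsub (Set.toFinite _)).trans ((Set.ncard_union_le _ _).trans (Nat.add_le_add ?_ ?_))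
  · have hun : ∀ I : Finset ℕ, (⋃ s ∈ I, {X : Subgroup B | ElAb s X ∧ X ≠ ⊥ ∧
        (normalizer (X : Set B)).index ≤ c}).ncard ≤
        ∑ s ∈ I, {X : Subgroup B | ElAb s X ∧ X ≠ ⊥ ∧ (normalizer (X : Set B)).index ≤ c}.ncard := by
      intro I
      induction I using Finset.induction_on with
      | empty => simp
      | insert j I hj ih =>
        rw [Finset.sum_insert hj, Finset.set_biUnion_insert]
        exact (Set.ncard_union_le _ _).trans (Nat.add_le_add_left ih _)
    refine (hun _).trans ?_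
    rw [Finset.sum_mul]
    exact Finset.sum_le_sum fun s hs => ncard_elab_class_le (Nat.prime_of_mem_primeFactors hs)
  · exact ncard_simple_le (fun X hX => hX.1) (fun X hX => hX.2)

end Cfsg.Agent.H59.EP
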