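import Mathlib

/-!
# S3499-II UB2 (helper59), part 1: the number of elementary abelian subgroups

* `gal s a` : (number of subspaces `≠ 0` of `F_s^a`, as a sum of natural quotients);
* `ncard_elab_le` : a subgroup `P` of order `s ^ a` has at most `gal s a` elementary abelian subgroups `≠ 1`.
-/

set_option autoImplicit false

namespace Cfsg.Agent.H59.EP

open Subgroup

/-- `∑_{j = 1}^{a} [a choose j]_s` (number of subspaces `≠ 0` of `F_s^a`). -/
def gal (s a : ℕ) : ℕ :=
  ∑ j ∈ Finset.Icc 1 a, (∏ i ∈ Finset.range j, (s ^ a - s ^ i)) / (∏ i ∈ Finset.range j, (s ^ j - s ^ i))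

/-- elementary abelian `s`-subgroups -/
structure ElAb {B : Type*} [Group B] (s : ℕ) (E : Subgroup B) : Prop where
  comm : ∀ a ∈ E, ∀ b ∈ E, a * b = b * a
  exp : ∀ a ∈ E, a ^ s = 1

variable {B : Type*} [Group B] (s : ℕ)

/-- lists of commuting independent elements of order `s` -/
def Good : List B → Prop
  | [] => True
  | x :: l => Good l ∧ x ^ s = 1 ∧ (∀ y ∈ l, x * y = y * x) ∧ x ∉ closure {y | y ∈ l}

variable {s}

theorem closure_cons (x : B) (l : List B) :
    closure {y | y ∈ x :: l} = closure {y | y ∈ l} ⊔ zpowers x := by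
  have : {y | y ∈ x :: l} = {y | y ∈ l} ∪ {x} := by
    ext y
    show y ∈ x :: l ↔ y ∈ l ∨ y = x
    rw [List.mem_cons, or_comm]
  rw [this, Subgroup.closure_union, zpowers_eq_closure]

theorem Good.elab [Finite B] (hs : s.Prime) {l : List B} (h : Good s l) :
    ElAb s (closure {y | y ∈ l}) ∧ Nat.card (closure {y | y ∈ l}) = s ^ l.length := by
  induction l with
  | nil =>
    have e : {y : B | y ∈ ([] : List B)} = ∅ := by ext y; simp
    rw [e, Subgroup.closure_empty]
    refine ⟨⟨?_, ?_⟩, ?_⟩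
    · intro a ha b hb
      rw [mem_bot] at ha hb
      rw [ha, hb]
    · intro a ha
      rw [mem_bot] at ha
      rw [ha, one_pow]
    · simp
  | cons x l ih =>
    obtain ⟨hl, hx, hc, hn⟩ := h
    obtain ⟨⟨h1, h2⟩, h3⟩ := ih hl
    set C := closure {y | y ∈ l} with hC
    have hxC : ∀ y ∈ C, x * y = y * x := by
      have : C ≤ centralizer {x} := by
        rw [hC, closure_le]
        intro y hy
        rw [SetLike.mem_coe, mem_centralizer_singleton_iff]
        exact (hc y hy).symm
      intro y hy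
      exact (mem_centralizer_singleton_iff.1 (this hy)).symm
    have hcomm : ∀ (c : C) (z : zpowers x), Commute (C.subtype c) ((zpowers x).subtype z) := by
      rintro ⟨c, hc⟩ ⟨z, k, rfl⟩
      show c * x ^ k = x ^ k * c
      have h4 : Commute x c := hxC c hc
      exact (h4.zpow_left k).eq.symm
    let f : C × zpowers x →* B := MonoidHom.noncommCoprod C.subtype (zpowers x).subtype hcomm
    have hD : closure {y | y ∈ x :: l} = f.range := by
      rw [closure_cons]
      apply le_antisymm
      · rw [sup_le_iff]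
        constructor
        · intro c hc
          exact ⟨(⟨c, hc⟩, 1), by simp [f]⟩
        · intro z hz
          exact ⟨(1, ⟨z, hz⟩), by simp [f]⟩
      · rintro _ ⟨⟨c, z⟩, rfl⟩
        have : f (c, z) = c * z := by simp [f]
        rw [this]
        exact mul_mem (mem_sup_left c.2) (mem_sup_right z.2)
    have hEl : ElAb s (closure {y | y ∈ x :: l}) := by
      rw [hD]
      refine ⟨?_, ?_⟩
      · rintro _ ⟨⟨c, z⟩, rfl⟩ _ ⟨⟨c', z'⟩, rfl⟩
        rw [← map_mul, ← map_mul]
        congr 1
        ext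
        · exact h1 _ c.2 _ c'.2
        · have : z * z' = z' * z := by
            have := (inferInstance : IsMulCommutative (zpowers x))
            exact mul_comm' z z'
          exact congrArg (Subtype.val) this
      · rintro _ ⟨⟨c, z⟩, rfl⟩
        rw [← map_pow]
        have e : ((c, z) : C × zpowers x) ^ s = 1 := by
          ext
          · exact h2 _ c.2
          · obtain ⟨z, k, rfl⟩ := z
            show (x ^ k) ^ s = 1
            rw [← zpow_natCast, ← zpow_mul, mul_comm, zpow_mul, zpow_natCast, hx, one_zpow]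
        rw [e, map_one]
    refine ⟨hEl, ?_⟩
    have hx1 : x ≠ 1 := by
      rintro rfl
      exact hn (one_mem _)
    have hord : orderOf x = s := by
      have : Fact s.Prime := ⟨hs⟩
      exact orderOf_eq_prime hx hx1
    have hup : Nat.card (closure {y | y ∈ x :: l}) ≤ s ^ l.length * s := by
      rw [hD]
      have h5 : Nat.card f.range ≤ Nat.card (C × zpowers x) :=
        Nat.card_le_card_of_surjective f.rangeRestrict f.rangeRestrict_surjective
      rw [Nat.card_prod, h3, Nat.card_zpowers, hord] at h5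
      exact h5
    have hps : IsPGroup s (closure {y | y ∈ x :: l}) := by
      rintro ⟨y, hy⟩
      refine ⟨1, Subtype.ext ?_⟩
      rw [pow_one]
      exact hEl.exp y hy
    have : Fact s.Prime := ⟨hs⟩
    obtain ⟨m, hm⟩ := IsPGroup.iff_card.1 hps
    have hlt : Nat.card C < Nat.card (closure {y | y ∈ x :: l}) := by
      have hle : C ≤ closure {y | y ∈ x :: l} := by rw [closure_cons]; exact le_sup_left
      have hne : C ≠ closure {y | y ∈ x :: l} := by
        intro e
        apply hn
        rw [e]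
        exact subset_closure (by simp)
      have hlt := lt_of_le_of_ne hle hne
      exact Set.Finite.card_lt_card (Set.toFinite _) hlt
    rw [h3, hm] at hlt
    rw [hm, ← pow_succ] at hup
    have h6 := (Nat.pow_lt_pow_iff_right hs.one_lt).1 hlt
    have h7 := (Nat.pow_le_pow_iff_right hs.one_lt).1 hup
    rw [hm, List.length_cons]
    congr 1
    omega

/-- the lists with entries in `E` of length `j` -/
def LL (s : ℕ) (E : Subgroup B) (j : ℕ) : Set (List B) := {l | l.length = j ∧ Good s l ∧ ∀ x ∈ l, x ∈ E}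

/-- the possible first entries -/
def XX (s : ℕ) (E : Subgroup B) (l : List B) : Set B :=
  {x | x ∈ E ∧ x ^ s = 1 ∧ (∀ y ∈ l, x * y = y * x) ∧ x ∉ closure {y | y ∈ l}}

theorem LL_zero (E : Subgroup B) : LL s E 0 = {[]} := by
  ext l
  constructor
  · rintro ⟨h, _, _⟩
    exact List.length_eq_zero_iff.1 h
  · rintro rfl
    exact ⟨rfl, trivial, by simp⟩

theorem LL_succ (E : Subgroup B) (j : ℕ) :
    LL s E (j + 1) = (fun p : Σ _ : List B, B => p.2 :: p.1) '' (Set.sigma (LL s E j) fun l => XX s E l) := by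
  ext l'
  constructor
  · rintro ⟨h1, h2, h3⟩
    cases l' with
    | nil => simp at h1
    | cons x l =>
      obtain ⟨hl, hx, hc, hn⟩ := h2
      refine ⟨⟨l, x⟩, ⟨⟨by simpa using h1, hl, fun y hy => h3 y (List.mem_cons_of_mem _ hy)⟩,
        h3 x List.mem_cons_self, hx, hc, hn⟩, rfl⟩
  · rintro ⟨⟨l, x⟩, ⟨⟨h1, h2, h3⟩, h4, h5, h6, h7⟩, rfl⟩
    refine ⟨?_, ⟨h2, h5, h6, h7⟩, ?_⟩
    · show (x :: l).length = j + 1
      rw [List.length_cons, show l.length = j from h1]
    · intro y hy
      rcases List.mem_cons.1 hy with rfl | hy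
      · exact h4
      · exact h3 y hy

theorem LL_finite [Finite B] (E : Subgroup B) (j : ℕ) : (LL s E j).Finite :=
  (List.finite_length_eq B j).subset fun _ h => h.1

theorem ncard_LL_succ [Finite B] (E : Subgroup B) (j : ℕ) :
    (LL s E (j + 1)).ncard = ∑ l ∈ (LL_finite (s := s) E j).toFinset, (XX s E l).ncard := by
  classical
  rw [LL_succ, Set.ncard_image_of_injective _ (by
    rintro ⟨l, x⟩ ⟨l', x'⟩ h
    obtain ⟨rfl, rfl⟩ := List.cons_eq_cons.1 h
    rfl)]
  have hf : ∀ l, (XX s E l).Finite := fun l => Set.toFinite _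
  have e : (Set.sigma (LL s E j) fun l => XX s E l) =
      ((LL_finite (s := s) E j).toFinset.sigma fun l => (hf l).toFinset : Finset (Σ _ : List B, B)) := by
    ext ⟨l, x⟩
    simp
  rw [e, Set.ncard_coe_finset, Finset.card_sigma]
  apply Finset.sum_congr rfl
  intro l _
  rw [← Set.ncard_eq_toFinset_card]

/-- the upper bound -/
theorem ncard_LL_le [Finite B] (hs : s.Prime) (P : Subgroup B) (j : ℕ) :
    (LL s P j).ncard ≤ ∏ i ∈ Finset.range j, (Nat.card P - s ^ i) := by
  induction j with
  | zero => rw [LL_zero]; simp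
  | succ j ih =>
    rw [ncard_LL_succ, Finset.prod_range_succ]
    refine le_trans (Finset.sum_le_card_nsmul _ _ (Nat.card P - s ^ j) ?_) ?_
    · intro l hl
      rw [Set.Finite.mem_toFinset] at hl
      obtain ⟨h1, h2, h3⟩ := hl
      have hle : closure {y | y ∈ l} ≤ P := (closure_le _).2 h3
      have hsub : XX s P l ⊆ (P : Set B) \ (closure {y | y ∈ l} : Subgroup B) := fun x hx => ⟨hx.1, hx.2.2.2⟩
      refine (Set.ncard_le_ncard hsub (Set.toFinite _)).trans (le_of_eq ?_)
      rw [Set.ncard_sdiff hle (Set.toFinite _)]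
      have e1 : ((P : Set B)).ncard = Nat.card P := rfl
      have e2 : ((closure {y | y ∈ l} : Subgroup B) : Set B).ncard = Nat.card (closure {y | y ∈ l}) := rfl
      rw [e1, e2, (h2.elab hs).2, h1]
    · rw [smul_eq_mul, ← Set.ncard_eq_toFinset_card _ (LL_finite _ _)]
      exact Nat.mul_le_mul_right _ ih

/-- the lower bound -/
theorem le_ncard_LL [Finite B] (hs : s.Prime) {E : Subgroup B} (hE : ElAb s E) (j : ℕ) :
    ∏ i ∈ Finset.range j, (Nat.card E - s ^ i) ≤ (LL s E j).ncard := by
  induction j with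
  | zero => rw [LL_zero]; simp
  | succ j ih =>
    rw [ncard_LL_succ, Finset.prod_range_succ]
    refine le_trans ?_ (Finset.card_nsmul_le_sum _ _ (Nat.card E - s ^ j) ?_)
    · rw [smul_eq_mul, ← Set.ncard_eq_toFinset_card _ (LL_finite _ _)]
      exact Nat.mul_le_mul_right _ ih
    · intro l hl
      rw [Set.Finite.mem_toFinset] at hl
      obtain ⟨h1, h2, h3⟩ := hl
      have hle : closure {y | y ∈ l} ≤ E := (closure_le _).2 h3
      have hsub : (E : Set B) \ (closure {y | y ∈ l} : Subgroup B) ⊆ XX s E l := fun x hx =>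
        ⟨hx.1, hE.exp x hx.1, fun y hy => hE.comm x hx.1 y (h3 y hy), hx.2⟩
      refine le_trans (le_of_eq ?_) (Set.ncard_le_ncard hsub (Set.toFinite _))
      rw [Set.ncard_sdiff hle (Set.toFinite _)]
      have e1 : ((E : Set B)).ncard = Nat.card E := rfl
      have e2 : ((closure {y | y ∈ l} : Subgroup B) : Set B).ncard = Nat.card (closure {y | y ∈ l}) := rfl
      rw [e1, e2, (h2.elab hs).2, h1]

/-- the number of elementary abelian subgroups of order `s ^ j` of a group of order `s ^ a` -/
theorem ncard_mul_le [Finite B] (hs : s.Prime) {P : Subgroup B} {a : ℕ} (hP : Nat.card P = s ^ a) (j : ℕ) :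
    {E : Subgroup B | E ≤ P ∧ ElAb s E ∧ Nat.card E = s ^ j}.ncard * ∏ i ∈ Finset.range j, (s ^ j - s ^ i) ≤
      ∏ i ∈ Finset.range j, (s ^ a - s ^ i) := by
  classical
  have hup := ncard_LL_le (s := s) hs P j
  rw [hP] at hup
  refine le_trans ?_ hup
  set 𝓔 := {E : Subgroup B | E ≤ P ∧ ElAb s E ∧ Nat.card E = s ^ j} with h𝓔
  have hfin : 𝓔.Finite := Set.toFinite _
  have hdis : ∀ E ∈ 𝓔, ∀ l ∈ LL s E j, closure {y | y ∈ l} = E := by
    rintro E ⟨h1, h2, h3⟩ l ⟨h4, h5, h6⟩
    have hle : closure {y | y ∈ l} ≤ E := (closure_le _).2 h6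
    apply Subgroup.eq_of_le_of_card_ge hle
    rw [(h5.elab hs).2, h4, h3]
  have hbi : (hfin.toFinset.biUnion fun E => (LL_finite (s := s) E j).toFinset) ⊆ (LL_finite (s := s) P j).toFinset := by
    intro l hl
    rw [Finset.mem_biUnion] at hl
    obtain ⟨E, hE, hl⟩ := hl
    rw [Set.Finite.mem_toFinset] at hE hl ⊢
    exact ⟨hl.1, hl.2.1, fun x hx => hE.1 (hl.2.2 x hx)⟩
  have hcard := Finset.card_le_card hbi
  rw [Finset.card_biUnion] at hcard
  · rw [← Set.ncard_eq_toFinset_card _ (LL_finite _ _)] at hcard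
    refine le_trans ?_ hcard
    rw [Set.ncard_eq_toFinset_card _ hfin, ← smul_eq_mul]
    apply Finset.card_nsmul_le_sum
    intro E hE
    rw [Set.Finite.mem_toFinset] at hE
    rw [← Set.ncard_eq_toFinset_card _ (LL_finite _ _)]
    have := le_ncard_LL hs hE.2.1 j
    rwa [hE.2.2] at this
  · intro E hE E' hE' hne
    rw [Function.onFun, Finset.disjoint_left]
    intro l hl hl'
    rw [Finset.mem_coe, Set.Finite.mem_toFinset] at hE hE'
    rw [Set.Finite.mem_toFinset] at hl hl'
    apply hne
    rw [← hdis E hE l hl, hdis E' hE' l hl']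

/-- **A group of order `s ^ a` has at most `gal s a` elementary abelian subgroups `≠ 1`.** -/
theorem ncard_elab_le [Finite B] (hs : s.Prime) {P : Subgroup B} {a : ℕ} (hP : Nat.card P = s ^ a) :
    {E : Subgroup B | E ≤ P ∧ ElAb s E ∧ E ≠ ⊥}.ncard ≤ gal s a := by
  classical
  have hfact : Fact s.Prime := ⟨hs⟩
  have hsub : {E : Subgroup B | E ≤ P ∧ ElAb s E ∧ E ≠ ⊥} ⊆
      ⋃ j ∈ Finset.Icc 1 a, {E : Subgroup B | E ≤ P ∧ ElAb s E ∧ Nat.card E = s ^ j} := by
    rintro E ⟨h1, h2, h3⟩
    have hps : IsPGroup s E := by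
      rintro ⟨y, hy⟩
      refine ⟨1, Subtype.ext ?_⟩
      rw [pow_one]
      exact h2.exp y hy
    obtain ⟨m, hm⟩ := IsPGroup.iff_card.1 hps
    have hle : Nat.card E ≤ Nat.card P := Set.ncard_le_ncard h1 (Set.toFinite _)
    rw [hm, hP] at hle
    have h7 := (Nat.pow_le_pow_iff_right hs.one_lt).1 hle
    have h8 : 1 ≤ m := by
      rw [Nat.one_le_iff_ne_zero]
      rintro rfl
      apply h3
      rw [← Subgroup.card_eq_one, hm, pow_zero]
    simp only [Set.mem_iUnion]
    exact ⟨m, Finset.mem_Icc.2 ⟨h8, h7⟩, h1, h2, hm⟩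
  refine (Set.ncard_le_ncard hsub (Set.toFinite _)).trans ?_
  have hun : (⋃ j ∈ Finset.Icc 1 a, {E : Subgroup B | E ≤ P ∧ ElAb s E ∧ Nat.card E = s ^ j}).ncard ≤
      ∑ j ∈ Finset.Icc 1 a, {E : Subgroup B | E ≤ P ∧ ElAb s E ∧ Nat.card E = s ^ j}.ncard := by
    generalize Finset.Icc 1 a = I
    induction I using Finset.induction_on with
    | empty => simp
    | insert j I hj ih =>
      rw [Finset.sum_insert hj, Finset.set_biUnion_insert]
      exact (Set.ncard_union_le _ _).trans (Nat.add_le_add_left ih _)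
  refine hun.trans (Finset.sum_le_sum fun j hj => ?_)
  rw [Nat.le_div_iff_mul_le]
  · exact ncard_mul_le hs hP j
  · apply Finset.prod_pos
    intro i hi
    rw [Finset.mem_range] at hi
    have := Nat.pow_lt_pow_right hs.one_lt hi
    omega

end Cfsg.Agent.H59.EP
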